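import Mathlib
import Cfsg.Prelude.Def_Transfer
import Cfsg.Agent.S3993
import Cfsg.Agent.S1946

/-!
# Groups in which no class size is divisible by 4 have a normal 2-complement (owner: helper23)
-/

set_option autoImplicit false

namespace Cfsg.Agent.H23.CF

open Subgroup

section Basic

variable {H : Type*} [Group H]

theorem exists_exp {q m : ℕ} (hqm : q.Coprime m) : ∃ k : ℕ, k ≡ 0 [MOD m] ∧ k ≡ 1 [MOD q] := by
  obtain ⟨k, h1, h2⟩ := Nat.chineseRemainder hqm 1 0
  exact ⟨k, h2, h1⟩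

theorem pow_eq_one_of_modEq {m k : ℕ} (hk : k ≡ 0 [MOD m]) {y : H} (hy : y ^ m = 1) : y ^ k = 1 := by
  have := pow_eq_pow_of_modEq hk hy
  rwa [pow_zero] at this

theorem pow_eq_self_of_modEq {m k : ℕ} (hk : k ≡ 1 [MOD m]) {y : H} (hy : y ^ m = 1) : y ^ k = y := by
  have := pow_eq_pow_of_modEq hk hy
  rwa [pow_one] at this

theorem eq_of_mul_eq {q m : ℕ} (hqm : q.Coprime m) {y u y' u' : H} (hy : y ^ m = 1) (hu : u ^ q = 1)
    (hy' : y' ^ m = 1) (hu' : u' ^ q = 1) (h1 : Commute y u) (h2 : Commute y' u')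
    (h : y * u = y' * u') : y = y' ∧ u = u' := by
  obtain ⟨k, hk0, hk1⟩ := exists_exp hqm
  have h3 : ∀ {y u : H}, y ^ m = 1 → u ^ q = 1 → Commute y u → (y * u) ^ k = u := by
    intro y u hy hu h1
    rw [h1.mul_pow, pow_eq_one_of_modEq hk0 hy, pow_eq_self_of_modEq hk1 hu, one_mul]
  have h4 : u = u' := by
    rw [← h3 hy hu h1, h, h3 hy' hu' h2]
  subst h4
  exact ⟨mul_right_cancel h, rfl⟩

end Basic

section A

variable {H : Type*} [Group H] [Finite H]

/-- the number of `2`-regular elements. -/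
theorem card_regular {b m : ℕ} (hm : Nat.Coprime 2 m) (hH : Nat.card H = 2 ^ b * m)
    (h : ∀ y : H, y ^ m = 1 → 2 ^ b ∣ 2 * Nat.card (Subgroup.centralizer ({y} : Set H))) :
    Nat.card {y : H // y ^ m = 1} = m := by
  classical
  have hm0 : 0 < m := by
    rcases Nat.eq_zero_or_pos m with h0 | h0
    · rw [h0, mul_zero] at hH
      exact absurd hH Nat.card_pos.ne'
    · exact h0
  obtain ⟨k, hk⟩ := S3993.result (G := H) m (by rw [hH]; exact dvd_mul_left _ _)
  have hpos : 0 < Nat.card {y : H // y ^ m = 1} := by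
    haveI : Nonempty {y : H // y ^ m = 1} := ⟨⟨1, one_pow _⟩⟩
    exact Nat.card_pos
  have hlt : Nat.card {y : H // y ^ m = 1} < 2 * m := by
    rcases Nat.eq_zero_or_pos b with hb | hb
    · have h1 : Nat.card {y : H // y ^ m = 1} ≤ Nat.card H := Nat.card_le_card_of_injective _ Subtype.val_injective
      rw [hH, hb, pow_zero, one_mul] at h1
      omega
    · obtain ⟨c, rfl⟩ : ∃ c, b = c + 1 := ⟨b - 1, by omega⟩
      have hex : ∀ y : {y : H // y ^ m = 1}, ∃ P : Subgroup H, P ≤ Subgroup.centralizer ({(y : H)} : Set H) ∧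
          (∀ u ∈ P, u ^ 2 ^ (c + 1) = 1) ∧ 2 ^ c ≤ Nat.card P ∧ ((y : H) = 1 → 2 ^ (c + 1) ≤ Nat.card P) := by
        intro y
        by_cases hy : (y : H) = 1
        · obtain ⟨P, hP⟩ := Sylow.exists_subgroup_card_pow_prime (G := H) 2 (n := c + 1)
            (by rw [hH]; exact dvd_mul_right _ _)
          refine ⟨P, ?_, ?_, ?_, ?_⟩
          · intro x _
            rw [hy, Subgroup.mem_centralizer_singleton_iff, one_mul, mul_one]
          · intro u hu
            have := orderOf_dvd_natCard (⟨u, hu⟩ : P)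
            rw [hP, Subgroup.orderOf_mk] at this
            exact orderOf_dvd_iff_pow_eq_one.1 this
          · rw [hP, pow_succ]
            omega
          · intro _
            rw [hP]
        · have h2 := h y y.2
          rw [pow_succ, mul_comm, Nat.mul_dvd_mul_iff_left (by norm_num)] at h2
          obtain ⟨P, hP⟩ := Sylow.exists_subgroup_card_pow_prime
            (G := ↥(Subgroup.centralizer ({(y : H)} : Set H))) 2 (n := c) h2
          refine ⟨P.map (Subgroup.subtype _), Subgroup.map_subtype_le P, ?_, ?_, fun h => absurd h hy⟩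
          · rintro _ ⟨u, hu, rfl⟩
            have := orderOf_dvd_natCard (⟨u, hu⟩ : P)
            rw [hP, Subgroup.orderOf_mk] at this
            have h3 : u ^ 2 ^ c = 1 := orderOf_dvd_iff_pow_eq_one.1 this
            rw [← map_pow, pow_succ, pow_mul, h3, one_pow, map_one]
          · rw [Nat.card_congr (Subgroup.equivMapOfInjective P _ (Subgroup.subtype_injective _)).toEquiv.symm, hP]
      choose P hP1 hP2 hP3 hP4 using hex
      haveI : Fintype {y : H // y ^ m = 1} := Fintype.ofFinite _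
      have h5 : Nat.card (Σ y : {y : H // y ^ m = 1}, ↥(P y)) ≤ Nat.card H := by
        apply Nat.card_le_card_of_injective (fun z : (Σ y : {y : H // y ^ m = 1}, ↥(P y)) => (z.1 : H) * (z.2 : H))
        rintro ⟨y, u⟩ ⟨y', u'⟩ he
        obtain ⟨h6, h7⟩ := eq_of_mul_eq (Nat.Coprime.pow_left (c + 1) hm) y.2 (hP2 y u u.2) y'.2 (hP2 y' u' u'.2)
          (Subgroup.mem_centralizer_singleton_iff.1 (hP1 y u.2)).symm
          (Subgroup.mem_centralizer_singleton_iff.1 (hP1 y' u'.2)).symm he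
        have h8 : y = y' := Subtype.ext h6
        subst h8
        have h9 : u = u' := Subtype.ext h7
        rw [h9]
      rw [Nat.card_sigma] at h5
      have h6 : ∑ y : {y : H // y ^ m = 1}, 2 ^ c < ∑ y : {y : H // y ^ m = 1}, Nat.card (P y) := by
        apply Finset.sum_lt_sum
        · intro y _
          exact hP3 y
        · refine ⟨⟨1, one_pow _⟩, Finset.mem_univ _, ?_⟩
          have := hP4 ⟨1, one_pow _⟩ rfl
          rw [pow_succ] at this
          have h10 : 0 < 2 ^ c := by positivity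
          omega
      rw [Finset.sum_const, Finset.card_univ, ← Nat.card_eq_fintype_card, smul_eq_mul] at h6
      have h7 : Nat.card {y : H // y ^ m = 1} * 2 ^ c < (2 * m) * 2 ^ c := by
        calc _ < _ := h6
          _ ≤ _ := h5
          _ = _ := by rw [hH]; ring
      exact lt_of_mul_lt_mul_right h7 (Nat.zero_le _)
  have hk2 : k < 2 := by
    rw [hk, mul_comm] at hlt
    exact lt_of_mul_lt_mul_right hlt (Nat.zero_le _)
  have hk0 : k ≠ 0 := by
    rintro rfl
    rw [mul_zero] at hk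
    omega
  have hk1 : k = 1 := by omega
  rw [hk, hk1, mul_one]

end A

section B

variable {G : Type*} [Group G] [Finite G]

/-- the odd part of the order of the centralizer. -/
noncomputable def oddC (s : G) : ℕ :=
  Nat.card (Subgroup.centralizer ({s} : Set G)) /
    2 ^ (Nat.card (Subgroup.centralizer ({s} : Set G))).factorization 2

theorem card_cent (s : G) : Nat.card (Subgroup.centralizer ({s} : Set G)) =
    2 ^ (Nat.card (Subgroup.centralizer ({s} : Set G))).factorization 2 * oddC s :=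
  (Nat.ordProj_mul_ordCompl_eq_self _ 2).symm

theorem coprime_oddC (s : G) : Nat.Coprime 2 (oddC s) :=
  Nat.coprime_ordCompl Nat.prime_two Nat.card_pos.ne'

theorem pow_dvd (h : ∀ x : G, ¬ 4 ∣ (Subgroup.centralizer ({x} : Set G)).index) (g : G) :
    2 ^ (Nat.card G).factorization 2 ∣ 2 * Nat.card (Subgroup.centralizer ({g} : Set G)) := by
  have h1 : 2 ^ (Nat.card G).factorization 2 ∣
      Nat.card (Subgroup.centralizer ({g} : Set G)) * (Subgroup.centralizer ({g} : Set G)).index := by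
    rw [Subgroup.card_mul_index]
    exact Nat.ordProj_dvd _ _
  rcases Nat.even_or_odd (Subgroup.centralizer ({g} : Set G)).index with h2 | h2
  · obtain ⟨j, hj⟩ := h2
    rw [← two_mul] at hj
    have h3 : Nat.Coprime 2 j := by
      rw [Nat.coprime_two_left]
      by_contra h4
      rw [Nat.not_odd_iff_even] at h4
      obtain ⟨i, hi⟩ := h4
      apply h g
      rw [hj, hi]
      exact ⟨i, by ring⟩
    rw [hj, ← mul_assoc, mul_comm _ 2] at h1
    exact (Nat.Coprime.pow_left _ h3).dvd_of_dvd_mul_right h1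
  · have h3 := (Nat.Coprime.pow_left ((Nat.card G).factorization 2) (Nat.coprime_two_left.2 h2)).dvd_of_dvd_mul_right h1
    exact dvd_mul_of_dvd_right h3 2

theorem card_cent_cent {s : G} {q : ℕ} (hs : s ^ q = 1)
    (y : ↥(Subgroup.centralizer ({s} : Set G))) {m : ℕ} (hy : y ^ m = 1) (hqm : q.Coprime m) :
    Nat.card (Subgroup.centralizer ({y} : Set ↥(Subgroup.centralizer ({s} : Set G)))) =
      Nat.card (Subgroup.centralizer ({s * (y : G)} : Set G)) := by
  have hys : Commute (y : G) s := Subgroup.mem_centralizer_singleton_iff.1 y.2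
  have hy' : (y : G) ^ m = 1 := by
    rw [← Subgroup.coe_pow, hy, Subgroup.coe_one]
  have h1 : (Subgroup.centralizer ({y} : Set ↥(Subgroup.centralizer ({s} : Set G)))).map
      (Subgroup.centralizer ({s} : Set G)).subtype = Subgroup.centralizer ({s * (y : G)} : Set G) := by
    ext g
    constructor
    · rintro ⟨u, hu, rfl⟩
      have h2 : Commute (u : G) s := Subgroup.mem_centralizer_singleton_iff.1 u.2
      have h3 : Commute (u : G) (y : G) := congrArg Subtype.val (Subgroup.mem_centralizer_singleton_iff.1 hu)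
      exact Subgroup.mem_centralizer_singleton_iff.2 (h2.mul_right h3)
    · intro hg
      have h2 : Commute g (s * (y : G)) := Subgroup.mem_centralizer_singleton_iff.1 hg
      obtain ⟨k, hk0, hk1⟩ := exists_exp hqm
      have h3 : (s * (y : G)) ^ k = s := by
        rw [hys.symm.mul_pow, pow_eq_self_of_modEq hk1 hs, pow_eq_one_of_modEq hk0 hy', mul_one]
      have h4 : Commute g s := by
        rw [← h3]
        exact h2.pow_right k
      have h5 : Commute g (y : G) := by
        have h6 : (y : G) = s⁻¹ * (s * (y : G)) := by group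
        rw [h6]
        exact h4.inv_right.mul_right h2
      exact ⟨⟨g, Subgroup.mem_centralizer_singleton_iff.2 h4⟩,
        Subgroup.mem_centralizer_singleton_iff.2 (Subtype.ext h5), rfl⟩
  rw [← h1]
  exact Nat.card_congr (Subgroup.equivMapOfInjective _ _ (Subgroup.subtype_injective _)).toEquiv

theorem card_reg_cent (h : ∀ x : G, ¬ 4 ∣ (Subgroup.centralizer ({x} : Set G)).index) {s : G}
    (hs : s ^ 2 ^ (Nat.card G).factorization 2 = 1) :
    Nat.card {y : ↥(Subgroup.centralizer ({s} : Set G)) // y ^ oddC s = 1} = oddC s := by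
  apply card_regular (coprime_oddC s) (card_cent s)
  intro y hy
  rw [card_cent_cent hs y hy (Nat.Coprime.pow_left _ (coprime_oddC s))]
  refine dvd_trans ?_ (pow_dvd h _)
  apply pow_dvd_pow
  exact (Nat.factorization_le_iff_dvd Nat.card_pos.ne' Nat.card_pos.ne').2
    (Subgroup.card_subgroup_dvd_card _) 2

theorem card_le_sum (h : ∀ x : G, ¬ 4 ∣ (Subgroup.centralizer ({x} : Set G)).index)
    [Fintype {s : G // s ^ 2 ^ (Nat.card G).factorization 2 = 1}] :
    Nat.card G ≤ ∑ s : {s : G // s ^ 2 ^ (Nat.card G).factorization 2 = 1}, oddC (s : G) := by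
  have h1 : ∑ s : {s : G // s ^ 2 ^ (Nat.card G).factorization 2 = 1}, oddC (s : G) =
      Nat.card (Σ s : {s : G // s ^ 2 ^ (Nat.card G).factorization 2 = 1},
        {y : ↥(Subgroup.centralizer ({(s : G)} : Set G)) // y ^ oddC (s : G) = 1}) := by
    rw [Nat.card_sigma]
    exact Finset.sum_congr rfl (fun s _ => (card_reg_cent h s.2).symm)
  rw [h1]
  have hcop : Nat.Coprime (2 ^ (Nat.card G).factorization 2) (Nat.card G / 2 ^ (Nat.card G).factorization 2) :=
    Nat.Coprime.pow_left _ (Nat.coprime_ordCompl Nat.prime_two Nat.card_pos.ne')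
  obtain ⟨e, he0, he1⟩ := exists_exp hcop
  obtain ⟨f, hf0, hf1⟩ := exists_exp hcop.symm
  have hG : 2 ^ (Nat.card G).factorization 2 * (Nat.card G / 2 ^ (Nat.card G).factorization 2) = Nat.card G :=
    Nat.ordProj_mul_ordCompl_eq_self _ 2
  have hef : ∀ g : G, g ^ e * g ^ f = g := by
    intro g
    rw [← pow_add]
    have h2 : e + f ≡ 1 [MOD 2 ^ (Nat.card G).factorization 2 * (Nat.card G / 2 ^ (Nat.card G).factorization 2)] := by
      rw [← Nat.modEq_and_modEq_iff_modEq_mul hcop]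
      exact ⟨Nat.ModEq.add he1 hf0, Nat.ModEq.add he0 hf1⟩
    rw [hG] at h2
    exact pow_eq_self_of_modEq h2 pow_card_eq_one'
  have hge : ∀ g : G, (g ^ e) ^ 2 ^ (Nat.card G).factorization 2 = 1 := by
    intro g
    obtain ⟨c, hc⟩ := (Nat.modEq_zero_iff_dvd.1 he0)
    rw [← pow_mul, hc, mul_right_comm, mul_comm (Nat.card G / _), hG, pow_mul, pow_card_eq_one', one_pow]
  have hgf : ∀ g : G, (g ^ f) ^ (Nat.card G / 2 ^ (Nat.card G).factorization 2) = 1 := by
    intro g
    obtain ⟨c, hc⟩ := (Nat.modEq_zero_iff_dvd.1 hf0)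
    rw [← pow_mul, hc, mul_right_comm, hG, pow_mul, pow_card_eq_one', one_pow]
  have hmem : ∀ g : G, g ^ f ∈ Subgroup.centralizer ({g ^ e} : Set G) := by
    intro g
    exact Subgroup.mem_centralizer_singleton_iff.2 (Commute.pow_pow (Commute.refl g) f e)
  have hodd : ∀ g : G, (⟨g ^ f, hmem g⟩ : ↥(Subgroup.centralizer ({g ^ e} : Set G))) ^ oddC (g ^ e) = 1 := by
    intro g
    apply orderOf_dvd_iff_pow_eq_one.1
    have h3 := orderOf_dvd_natCard (⟨g ^ f, hmem g⟩ : ↥(Subgroup.centralizer ({g ^ e} : Set G)))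
    rw [card_cent] at h3
    refine Nat.Coprime.dvd_of_dvd_mul_left (Nat.Coprime.pow_right _ ?_) h3
    rw [Subgroup.orderOf_mk]
    have h4 := orderOf_dvd_iff_pow_eq_one.2 (hgf g)
    exact (Nat.Coprime.coprime_dvd_right h4 (Nat.coprime_ordCompl Nat.prime_two Nat.card_pos.ne')).symm
  apply Nat.card_le_card_of_injective (fun g : G =>
    (⟨⟨g ^ e, hge g⟩, ⟨⟨g ^ f, hmem g⟩, hodd g⟩⟩ :
      Σ s : {s : G // s ^ 2 ^ (Nat.card G).factorization 2 = 1},
        {y : ↥(Subgroup.centralizer ({(s : G)} : Set G)) // y ^ oddC (s : G) = 1}))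
  have hret : Function.LeftInverse (fun z : (Σ s : {s : G // s ^ 2 ^ (Nat.card G).factorization 2 = 1},
        {y : ↥(Subgroup.centralizer ({(s : G)} : Set G)) // y ^ oddC (s : G) = 1}) =>
          (z.1 : G) * (z.2 : G)) (fun g : G =>
    (⟨⟨g ^ e, hge g⟩, ⟨⟨g ^ f, hmem g⟩, hodd g⟩⟩ :
      Σ s : {s : G // s ^ 2 ^ (Nat.card G).factorization 2 = 1},
        {y : ↥(Subgroup.centralizer ({(s : G)} : Set G)) // y ^ oddC (s : G) = 1})) := fun g => hef g
  exact hret.injective

theorem sum_le (P : Sylow 2 G) [Fintype {s : G // s ^ 2 ^ (Nat.card G).factorization 2 = 1}] :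
    ∑ s : {s : G // s ^ 2 ^ (Nat.card G).factorization 2 = 1},
      Nat.card {g : G // g * (s : G) * g⁻¹ ∈ (P : Subgroup G)} ≤
    2 ^ (Nat.card G).factorization 2 * Nat.card G := by
  have h1 : 2 ^ (Nat.card G).factorization 2 * Nat.card G = Nat.card (G × ↥(P : Subgroup G)) := by
    rw [Nat.card_prod, P.card_eq_multiplicity, mul_comm]
  rw [← Nat.card_sigma, h1]
  apply Nat.card_le_card_of_injective (fun z : (Σ s : {s : G // s ^ 2 ^ (Nat.card G).factorization 2 = 1},
    {g : G // g * (s : G) * g⁻¹ ∈ (P : Subgroup G)}) =>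
      ((z.2 : G), (⟨(z.2 : G) * (z.1 : G) * (z.2 : G)⁻¹, z.2.2⟩ : ↥(P : Subgroup G))))
  rintro ⟨s, g⟩ ⟨s', g'⟩ he
  have h2 : (g : G) = (g' : G) := congrArg Prod.fst he
  have h3 : (g : G) * (s : G) * (g : G)⁻¹ = (g' : G) * (s' : G) * (g' : G)⁻¹ :=
    congrArg (fun z : G × ↥(P : Subgroup G) => (z.2 : G)) he
  rw [← h2] at h3
  have h4 : s = s' := Subtype.ext (mul_left_cancel (mul_right_cancel h3))
  subst h4
  have h5 : g = g' := Subtype.ext h2
  rw [h5]

/-- the key estimate. -/
theorem key (P : Sylow 2 G) (s g0 : G) (hg0 : g0 * s * g0⁻¹ ∈ (P : Subgroup G)) :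
    2 ^ (Nat.card G).factorization 2 * oddC s ≤ Nat.card {g : G // g * s * g⁻¹ ∈ (P : Subgroup G)} ∧
    (Nat.card {g : G // g * s * g⁻¹ ∈ (P : Subgroup G)} ≤ 2 ^ (Nat.card G).factorization 2 * oddC s →
      ∀ g : G, g * s * g⁻¹ ∈ (P : Subgroup G) → ∃ x ∈ (P : Subgroup G), ∃ c : G, c * s = s * c ∧
        g = x * g0 * c) := by
  set J : Subgroup ↥(P : Subgroup G) :=
    (Subgroup.centralizer ({g0 * s * g0⁻¹} : Set G)).subgroupOf (P : Subgroup G) with hJ
  have hmap : ∀ (z : (↥(P : Subgroup G) ⧸ J) × ↥(Subgroup.centralizer ({s} : Set G))),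
      ((z.1.out : ↥(P : Subgroup G)) : G) * g0 * (z.2 : G) * s *
        (((z.1.out : ↥(P : Subgroup G)) : G) * g0 * (z.2 : G))⁻¹ ∈ (P : Subgroup G) := by
    intro z
    have h1 : (z.2 : G) * s = s * (z.2 : G) := Subgroup.mem_centralizer_singleton_iff.1 z.2.2
    have h2 : ((z.1.out : ↥(P : Subgroup G)) : G) * g0 * (z.2 : G) * s *
        (((z.1.out : ↥(P : Subgroup G)) : G) * g0 * (z.2 : G))⁻¹ =
        (z.1.out : ↥(P : Subgroup G)) * (g0 * s * g0⁻¹) * ((z.1.out : ↥(P : Subgroup G)) : G)⁻¹ := by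
      have h3 : ((z.1.out : ↥(P : Subgroup G)) : G) * g0 * (z.2 : G) * s =
        ((z.1.out : ↥(P : Subgroup G)) : G) * g0 * (s * (z.2 : G)) := by rw [mul_assoc, h1]
      rw [h3]
      group
    rw [h2]
    exact mul_mem (mul_mem (SetLike.coe_mem _) hg0) (inv_mem (SetLike.coe_mem _))
  let φ : (↥(P : Subgroup G) ⧸ J) × ↥(Subgroup.centralizer ({s} : Set G)) →
      {g : G // g * s * g⁻¹ ∈ (P : Subgroup G)} := fun z =>
    ⟨((z.1.out : ↥(P : Subgroup G)) : G) * g0 * (z.2 : G), hmap z⟩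
  have hφ : Function.Injective φ := by
    rintro ⟨x, c⟩ ⟨x', c'⟩ he
    have h1 : ((x.out : ↥(P : Subgroup G)) : G) * g0 * (c : G) =
      ((x'.out : ↥(P : Subgroup G)) : G) * g0 * (c' : G) := congrArg Subtype.val he
    have hxx : x = x' := by
      rw [← QuotientGroup.out_eq' x, ← QuotientGroup.out_eq' x', QuotientGroup.eq]
      apply Subgroup.mem_subgroupOf.2
      have h2 : (((x.out : ↥(P : Subgroup G))⁻¹ * (x'.out : ↥(P : Subgroup G)) : ↥(P : Subgroup G)) : G) =
          g0 * ((c : G) * (c' : G)⁻¹) * g0⁻¹ := by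
        have h3 : ((x'.out : ↥(P : Subgroup G)) : G) = (x.out : ↥(P : Subgroup G)) * g0 * (c : G) * (c' : G)⁻¹ * g0⁻¹ := by
          rw [h1]
          group
        rw [Subgroup.coe_mul, Subgroup.coe_inv, h3]
        group
      rw [h2]
      have h4 : ((c : G) * (c' : G)⁻¹) ∈ Subgroup.centralizer ({s} : Set G) := mul_mem c.2 (inv_mem c'.2)
      have h5 : ((c : G) * (c' : G)⁻¹) * s = s * ((c : G) * (c' : G)⁻¹) :=
        Subgroup.mem_centralizer_singleton_iff.1 h4
      rw [Subgroup.mem_centralizer_singleton_iff]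
      calc g0 * ((c : G) * (c' : G)⁻¹) * g0⁻¹ * (g0 * s * g0⁻¹) =
          g0 * (((c : G) * (c' : G)⁻¹) * s) * g0⁻¹ := by group
        _ = g0 * (s * ((c : G) * (c' : G)⁻¹)) * g0⁻¹ := by rw [h5]
        _ = g0 * s * g0⁻¹ * (g0 * ((c : G) * (c' : G)⁻¹) * g0⁻¹) := by group
    subst hxx
    have h6 : (c : G) = (c' : G) := mul_left_cancel h1
    rw [Subtype.ext h6]
  have hcard : 2 ^ (Nat.card G).factorization 2 * oddC s ≤
      Nat.card ((↥(P : Subgroup G) ⧸ J) × ↥(Subgroup.centralizer ({s} : Set G))) := by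
    rw [Nat.card_prod, card_cent s, ← mul_assoc]
    apply Nat.mul_le_mul_right
    have h1 : Nat.card (↥(P : Subgroup G) ⧸ J) * Nat.card J = 2 ^ (Nat.card G).factorization 2 := by
      rw [← Subgroup.card_eq_card_quotient_mul_card_subgroup, P.card_eq_multiplicity]
    have h2 : Nat.card J ∣ Nat.card (Subgroup.centralizer ({s} : Set G)) := by
      have h3 : J.map (P : Subgroup G).subtype ≤ (Subgroup.centralizer ({s} : Set G)).map (MulAut.conj g0).toMonoidHom := by
        rintro _ ⟨x, hx, rfl⟩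
        have h4 := Subgroup.mem_centralizer_singleton_iff.1 (Subgroup.mem_subgroupOf.1 hx)
        refine ⟨g0⁻¹ * (x : G) * g0, ?_, ?_⟩
        · apply Subgroup.mem_centralizer_singleton_iff.2
          calc g0⁻¹ * (x : G) * g0 * s = g0⁻¹ * ((x : G) * (g0 * s * g0⁻¹)) * g0 := by group
            _ = g0⁻¹ * ((g0 * s * g0⁻¹) * (x : G)) * g0 := by rw [h4]
            _ = s * (g0⁻¹ * (x : G) * g0) := by group
        · change g0 * (g0⁻¹ * (x : G) * g0) * g0⁻¹ = (x : G)
          group
      have h5 := Subgroup.card_dvd_of_le h3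
      rwa [Nat.card_congr (Subgroup.equivMapOfInjective J _ (Subgroup.subtype_injective _)).toEquiv.symm,
        Nat.card_congr (Subgroup.equivMapOfInjective _ _ (MulAut.conj g0).injective).toEquiv.symm] at h5
    have h6 : Nat.card J ≤ 2 ^ (Nat.card (Subgroup.centralizer ({s} : Set G))).factorization 2 := by
      have h7 : IsPGroup 2 J := P.2.to_subgroup J
      obtain ⟨j, hj⟩ := IsPGroup.iff_card.1 h7
      rw [hj] at h2 ⊢
      apply Nat.pow_le_pow_right (by norm_num)
      exact (Nat.Prime.pow_dvd_iff_le_factorization Nat.prime_two Nat.card_pos.ne').1 h2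
    calc 2 ^ (Nat.card G).factorization 2 = Nat.card (↥(P : Subgroup G) ⧸ J) * Nat.card J := h1.symm
      _ ≤ _ := Nat.mul_le_mul_left _ h6
  refine ⟨le_trans hcard (Nat.card_le_card_of_injective φ hφ), ?_⟩
  intro hle g hg
  have hbij : Function.Bijective φ :=
    (Nat.bijective_iff_injective_and_card φ).2 ⟨hφ, le_antisymm (Nat.card_le_card_of_injective φ hφ) (le_trans hle hcard)⟩
  obtain ⟨z, hz⟩ := hbij.2 ⟨g, hg⟩
  exact ⟨_, SetLike.coe_mem _, (z.2 : G), Subgroup.mem_centralizer_singleton_iff.1 z.2.2,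
    (congrArg Subtype.val hz).symm⟩

/-- no class size divisible by `4` implies a normal `2`-complement. -/
theorem npc (h : ∀ x : G, ¬ 4 ∣ (Subgroup.centralizer ({x} : Set G)).index) :
    Cfsg.HasNormalPComplement 2 G := by
  classical
  obtain ⟨P⟩ : Nonempty (Sylow 2 G) := inferInstance
  haveI : Fintype {s : G // s ^ 2 ^ (Nat.card G).factorization 2 = 1} := Fintype.ofFinite _
  have hex : ∀ s : G, s ^ 2 ^ (Nat.card G).factorization 2 = 1 → ∃ g0 : G, g0 * s * g0⁻¹ ∈ (P : Subgroup G) := by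
    intro s hs
    have h1 : IsPGroup 2 (Subgroup.zpowers s) := by
      rw [IsPGroup.iff_card]
      rw [Nat.card_zpowers]
      obtain ⟨k, _, hk⟩ := (Nat.dvd_prime_pow Nat.prime_two).1 (orderOf_dvd_of_pow_eq_one hs)
      exact ⟨k, hk⟩
    obtain ⟨Q, hQ⟩ := h1.exists_le_sylow
    obtain ⟨g, hg⟩ := MulAction.exists_smul_eq G Q P
    refine ⟨g, ?_⟩
    rw [← hg]
    exact ⟨s, hQ (Subgroup.mem_zpowers s), rfl⟩
  have h1 : ∀ s ∈ (Finset.univ : Finset {s : G // s ^ 2 ^ (Nat.card G).factorization 2 = 1}),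
      2 ^ (Nat.card G).factorization 2 * oddC (s : G) ≤ Nat.card {g : G // g * (s : G) * g⁻¹ ∈ (P : Subgroup G)} := by
    intro s _
    obtain ⟨g0, hg0⟩ := hex s s.2
    exact (key P s g0 hg0).1
  have h2 : ∑ s : {s : G // s ^ 2 ^ (Nat.card G).factorization 2 = 1},
      2 ^ (Nat.card G).factorization 2 * oddC (s : G) =
      ∑ s : {s : G // s ^ 2 ^ (Nat.card G).factorization 2 = 1},
        Nat.card {g : G // g * (s : G) * g⁻¹ ∈ (P : Subgroup G)} := by
    apply le_antisymm (Finset.sum_le_sum h1)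
    refine le_trans (sum_le P) ?_
    rw [← Finset.mul_sum]
    exact Nat.mul_le_mul_left _ (card_le_sum h)
  have h3 := (Finset.sum_eq_sum_iff_of_le h1).1 h2
  apply (S1946.result P).2
  intro a ha _ g hg
  have ha' : a ^ 2 ^ (Nat.card G).factorization 2 = 1 := by
    have := orderOf_dvd_natCard (⟨a, ha⟩ : ↥(P : Subgroup G))
    rw [P.card_eq_multiplicity, Subgroup.orderOf_mk] at this
    exact orderOf_dvd_iff_pow_eq_one.1 this
  have h4 := h3 ⟨a, ha'⟩ (Finset.mem_univ _)
  obtain ⟨x, hx, c, hc, hgx⟩ := (key P a 1 (by rw [one_mul, inv_one, mul_one]; exact ha)).2 h4.symm.le g hg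
  refine ⟨x, hx, ?_⟩
  rw [hgx, mul_one]
  calc x * c * a * (x * c)⁻¹ = x * (c * a) * c⁻¹ * x⁻¹ := by group
    _ = x * (a * c) * c⁻¹ * x⁻¹ := by rw [hc]
    _ = x * a * x⁻¹ := by group

end B

end Cfsg.Agent.H23.CF
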