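import Cfsg.Agent.H23.ClassFour
import Cfsg.Agent.FT.Base
import Cfsg.Agent.Transfer.NPC
import Cfsg.Agent.H10.MinNormal
import Cfsg.Agent.Supersolvable.Structure
import Cfsg.Agent.H91.CoprimeAb
import Cfsg.Agent.Cop.Basic
import Cfsg.Agent.Solv.MinNormal
import Cfsg.Agent.FStar.PComp

/-!
# Square-free class sizes (owner: helper23)
-/

set_option autoImplicit false

namespace Cfsg.Agent.H23.CS

open Subgroup Cfsg

universe u

section Solv

variable {G : Type*} [Group G]

theorem solvable_of_normal_of_quotient (N : Subgroup G) [N.Normal] (h1 : Group.IsSolvable N)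
    (h2 : Group.IsSolvable (G ⧸ N)) : Group.IsSolvable G := by
  have := h1
  have := h2
  exact Group.isSolvable_of_ker_le_range N.subtype (QuotientGroup.mk' N) (by simp)

theorem solvable_of_npc [Finite G] (h : HasNormalPComplement 2 G) : Group.IsSolvable G := by
  obtain ⟨N, hN, h1, k, h2⟩ := Transfer.hasNPC_iff_exists.1 h
  have hNs : Group.IsSolvable N := FT.solvable_of_odd (Nat.coprime_two_right.1 h1)
  have hq : IsPGroup 2 (G ⧸ N) := IsPGroup.of_card (n := k) (by rw [← Subgroup.index_eq_card, h2])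
  have h3 : Group.IsNilpotent (G ⧸ N) := hq.isNilpotent
  exact solvable_of_normal_of_quotient N hNs inferInstance

end Solv

/-- all class sizes are square-free. -/
def Sq (G : Type*) [Group G] : Prop := ∀ x : G, Squarefree (Subgroup.centralizer ({x} : Set G)).index

section Basic

variable {G : Type*} [Group G]

theorem Sq.solvable [Finite G] (h : Sq G) : Group.IsSolvable G := by
  apply solvable_of_npc
  apply CF.npc
  intro x h4
  have h1 := (Nat.squarefree_iff_prime_squarefree.1 (h x)) 2 Nat.prime_two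
  exact h1 h4

theorem Sq.quotient [Finite G] (h : Sq G) (N : Subgroup G) [N.Normal] : Sq (G ⧸ N) := by
  intro x
  obtain ⟨g, rfl⟩ := QuotientGroup.mk'_surjective N x
  apply (h g).squarefree_of_dvd
  have h1 : (Subgroup.centralizer ({g} : Set G)).map (QuotientGroup.mk' N) ≤
      Subgroup.centralizer ({QuotientGroup.mk' N g} : Set (G ⧸ N)) := by
    rintro _ ⟨y, hy, rfl⟩
    have hy' := Subgroup.mem_centralizer_singleton_iff.1 hy
    apply Subgroup.mem_centralizer_singleton_iff.2
    rw [← map_mul, ← map_mul, hy']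
  exact (Subgroup.index_dvd_of_le h1).trans (Subgroup.index_map_dvd _ (QuotientGroup.mk'_surjective N))

theorem card_inf_mul_relIndex (H K : Subgroup G) : Nat.card ↥(H ⊓ K) * H.relIndex K = Nat.card K := by
  have := Subgroup.relIndex_mul_relIndex (⊥ : Subgroup G) (H ⊓ K) K bot_le inf_le_right
  rwa [Subgroup.relIndex_bot_left, Subgroup.relIndex_bot_left, Subgroup.inf_relIndex_right] at this

theorem relIndex_dvd_index [Finite G] (H K : Subgroup G) [K.Normal] : H.relIndex K ∣ H.index := by
  obtain ⟨c, hc⟩ := Subgroup.relIndex_dvd_index_of_normal K H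
  refine ⟨c, ?_⟩
  have e1 : Nat.card H * H.index = Nat.card G := Subgroup.card_mul_index H
  have e2 : Nat.card K * K.index = Nat.card G := Subgroup.card_mul_index K
  have e3 : Nat.card ↥(H ⊓ K) * H.relIndex K = Nat.card K := card_inf_mul_relIndex H K
  have e4 : Nat.card ↥(H ⊓ K) * K.relIndex H = Nat.card H := by
    rw [inf_comm]
    exact card_inf_mul_relIndex K H
  have hpos : 0 < Nat.card H := Nat.card_pos
  apply Nat.eq_of_mul_eq_mul_left hpos
  rw [e1, ← e2, hc]
  calc Nat.card K * (K.relIndex H * c) = (Nat.card ↥(H ⊓ K) * H.relIndex K) * (K.relIndex H * c) := by rw [e3]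
    _ = (Nat.card ↥(H ⊓ K) * K.relIndex H) * (H.relIndex K * c) := by ring
    _ = _ := by rw [e4]

theorem Sq.relIndex [Finite G] (h : Sq G) (K : Subgroup G) [K.Normal] (x : G) :
    Squarefree ((Subgroup.centralizer ({x} : Set G)).relIndex K) :=
  (h x).squarefree_of_dvd (relIndex_dvd_index _ K)

theorem Sq.relIndex_dvd [Finite G] (h : Sq G) (K : Subgroup G) [K.Normal] {p : ℕ} [hp : Fact p.Prime]
    (hK : IsPGroup p K) (x : G) : (Subgroup.centralizer ({x} : Set G)).relIndex K ∣ p := by
  have h1 := h.relIndex K x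
  obtain ⟨k, hk⟩ := IsPGroup.iff_card.1 hK
  have h2 : (Subgroup.centralizer ({x} : Set G)).relIndex K ∣ p ^ k := by
    rw [← hk]
    exact Subgroup.relIndex_dvd_card _ _
  obtain ⟨j, _, hj⟩ := (Nat.dvd_prime_pow hp.out).1 h2
  rw [hj] at h1 ⊢
  rcases Nat.lt_or_ge j 2 with hj2 | hj2
  · exact (pow_dvd_pow p (by omega : j ≤ 1)).trans (by rw [pow_one])
  · exfalso
    have h3 := (Nat.squarefree_iff_prime_squarefree.1 h1) p hp.out
    exact h3 (by rw [← pow_two]; exact pow_dvd_pow p hj2)

end Basic

section RankOne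

/-- the rank one lemma. -/
theorem rank_one {W W' S : Type*} [Group W] [Group W'] [Finite W] (φ : S → W →* W') {p : ℕ}
    (hp : p.Prime) (hc : ∀ s, Nat.card (φ s).range ∣ p)
    (h : ∀ s t, (φ s).range ⊓ (φ t).range = ⊥ → ∃ u, (φ u).ker ≤ (φ s).ker ⊓ (φ t).ker) :
    (∃ R : Subgroup W', Nat.card R ∣ p ∧ ∀ s, (φ s).range ≤ R) ∨
      (∃ s0, (φ s0).range ≠ ⊥ ∧ ∀ s, (φ s0).ker ≤ (φ s).ker) := by
  classical
  have hfin : ∀ s, Finite (φ s).range := fun s => Finite.of_surjective _ (φ s).rangeRestrict_surjective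
  have hind : ∀ s, (φ s).ker.index = Nat.card (φ s).range := fun s => Subgroup.index_ker (φ s)
  have hcp : ∀ s, (φ s).range ≠ ⊥ → Nat.card (φ s).range = p := by
    intro s hs
    rcases (Nat.dvd_prime hp).1 (hc s) with h1 | h1
    · exact absurd (Subgroup.card_eq_one.1 h1) hs
    · exact h1
  have hbot : ∀ s t, (φ s).range ≠ ⊥ → (φ t).range ≠ ⊥ → (φ s).range ≠ (φ t).range →
      (φ s).range ⊓ (φ t).range = ⊥ := by
    intro s t hs ht hst
    by_contra hne
    have h1 : Nat.card ↥((φ s).range ⊓ (φ t).range) ∣ Nat.card (φ s).range := Subgroup.card_dvd_of_le inf_le_left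
    rw [hcp s hs] at h1
    rcases (Nat.dvd_prime hp).1 h1 with h2 | h2
    · exact hne (Subgroup.card_eq_one.1 h2)
    · have h3 : (φ s).range ⊓ (φ t).range = (φ s).range :=
        Subgroup.eq_of_le_of_card_ge inf_le_left (by rw [h2, hcp s hs])
      have h4 : (φ s).range ⊓ (φ t).range = (φ t).range :=
        Subgroup.eq_of_le_of_card_ge inf_le_right (by rw [h2, hcp t ht])
      exact hst (h3.symm.trans h4)
  have hker : ∀ s t, (φ s).range ≠ ⊥ → (φ t).range ≠ ⊥ → (φ s).range ≠ (φ t).range →
      (φ s).ker = (φ t).ker := by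
    intro s t hs ht hst
    obtain ⟨u, hu⟩ := h s t (hbot s t hs ht hst)
    have h1 : ∀ r, (φ r).range ≠ ⊥ → (φ u).ker ≤ (φ r).ker → (φ u).ker = (φ r).ker := by
      intro r hr hle
      apply Subgroup.eq_of_le_of_card_ge hle
      have e1 := Subgroup.card_mul_index (φ u).ker
      have e2 := Subgroup.card_mul_index (φ r).ker
      rw [hind, hcp r hr] at e2
      rw [hind] at e1
      have h2 : Nat.card (φ u).range ≤ p := Nat.le_of_dvd hp.pos (hc u)
      have h3 : Nat.card (φ r).ker * p ≤ Nat.card (φ u).ker * p := by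
        rw [e2, ← e1]
        exact Nat.mul_le_mul_left _ h2
      exact le_of_mul_le_mul_right h3 hp.pos
    rw [← h1 s hs (hu.trans inf_le_left), ← h1 t ht (hu.trans inf_le_right)]
  by_cases h0 : ∀ s, (φ s).range = ⊥
  · left
    exact ⟨⊥, by rw [Subgroup.card_bot]; exact one_dvd _, fun s => (h0 s).le⟩
  push Not at h0
  obtain ⟨s0, hs0⟩ := h0
  by_cases h1 : ∀ s, (φ s).range = ⊥ ∨ (φ s).range = (φ s0).range
  · left
    refine ⟨(φ s0).range, hc s0, fun s => ?_⟩
    rcases h1 s with h2 | h2
    · rw [h2]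
      exact bot_le
    · rw [h2]
  · push Not at h1
    obtain ⟨s1, hs1, hs10⟩ := h1
    right
    refine ⟨s0, hs0, fun s => ?_⟩
    by_cases h2 : (φ s).range = ⊥
    · have h3 : (φ s).ker = ⊤ := by
        rw [MonoidHom.range_eq_bot_iff] at h2
        rw [h2, MonoidHom.ker_one]
      rw [h3]
      exact le_top
    · by_cases h3 : (φ s).range = (φ s0).range
      · rw [hker s s1 h2 hs1 (by rw [h3]; exact hs10.symm), hker s1 s0 hs1 hs0 hs10]
      · rw [hker s s0 h2 hs0 h3]

end RankOne

section MinN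

variable {G : Type*} [Group G] [Finite G]

/-- the commutator map `v ↦ g v g⁻¹ v⁻¹` of a normal abelian subgroup. -/
def comm (V : Subgroup G) [V.Normal] (hV : IsMulCommutative V) (g : G) : V →* V where
  toFun v := ⟨g * v * g⁻¹ * (v : G)⁻¹, mul_mem (Normal.conj_mem inferInstance _ v.2 g) (inv_mem v.2)⟩
  map_one' := by
    apply Subtype.ext
    change g * (1 : G) * g⁻¹ * (1 : G)⁻¹ = 1
    group
  map_mul' v w := by
    apply Subtype.ext
    change g * ((v : G) * w) * g⁻¹ * ((v : G) * w)⁻¹ = (g * v * g⁻¹ * (v : G)⁻¹) * (g * w * g⁻¹ * (w : G)⁻¹)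
    have h1 : (g * w * g⁻¹) * (v : G)⁻¹ = (v : G)⁻¹ * (g * w * g⁻¹) :=
      Solv.comm_of_isMulCommutative hV (Normal.conj_mem inferInstance _ w.2 g) (inv_mem v.2)
    have h2 : (w : G)⁻¹ * (v : G)⁻¹ = (v : G)⁻¹ * (w : G)⁻¹ :=
      Solv.comm_of_isMulCommutative hV (inv_mem w.2) (inv_mem v.2)
    calc g * ((v : G) * w) * g⁻¹ * ((v : G) * w)⁻¹ =
        (g * v * g⁻¹) * (g * w * g⁻¹) * ((w : G)⁻¹ * (v : G)⁻¹) := by group
      _ = (g * v * g⁻¹) * ((g * w * g⁻¹) * (v : G)⁻¹) * (w : G)⁻¹ := by rw [h2]; group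
      _ = _ := by rw [h1]; group

theorem comm_apply (V : Subgroup G) [V.Normal] (hV : IsMulCommutative V) (g : G) (v : V) :
    (comm V hV g v : G) = g * v * g⁻¹ * (v : G)⁻¹ := rfl

theorem mem_ker_comm (V : Subgroup G) [V.Normal] (hV : IsMulCommutative V) (g : G) (v : V) :
    v ∈ (comm V hV g).ker ↔ g * v = v * g := by
  rw [MonoidHom.mem_ker, ← Subtype.coe_inj, comm_apply, Subgroup.coe_one, mul_inv_eq_one,
    mul_inv_eq_iff_eq_mul]

theorem card_range_comm (V : Subgroup G) [V.Normal] (hV : IsMulCommutative V) (g : G) :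
    Nat.card (comm V hV g).range = (Subgroup.centralizer ({g} : Set G)).relIndex V := by
  rw [← Subgroup.index_ker, Subgroup.relIndex]
  congr 1
  ext v
  rw [mem_ker_comm, Subgroup.mem_subgroupOf, Subgroup.mem_centralizer_singleton_iff]
  exact eq_comm

theorem comm_mul (V : Subgroup G) [V.Normal] (hV : IsMulCommutative V) (g h : G) (v : V) :
    comm V hV (g * h) v = comm V hV g (comm V hV h v) * comm V hV h v * comm V hV g v := by
  apply Subtype.ext
  rw [Subgroup.coe_mul, Subgroup.coe_mul, comm_apply, comm_apply, comm_apply, comm_apply]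
  group

theorem comm_rank_one (V : Subgroup G) [V.Normal] (hV : IsMulCommutative V) {p : ℕ}
    (hp : p.Prime) (hc : ∀ g : G, (Subgroup.centralizer ({g} : Set G)).relIndex V ∣ p) :
    (∃ R : Subgroup V, Nat.card R ∣ p ∧ ∀ g, (comm V hV g).range ≤ R) ∨
      (∃ g0, (comm V hV g0).range ≠ ⊥ ∧ ∀ g, (comm V hV g0).ker ≤ (comm V hV g).ker) := by
  apply rank_one (comm V hV) hp (fun g => by rw [card_range_comm]; exact hc g)
  intro g h hgh
  refine ⟨g * h, fun v hv => ?_⟩
  rw [MonoidHom.mem_ker, comm_mul] at hv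
  have hvc : Commute (comm V hV h v) (comm V hV g v) := hV.is_comm.comm _ _
  have h1 : comm V hV g (comm V hV h v) * comm V hV g v * comm V hV h v = 1 := by
    rw [mul_assoc, ← hvc.eq, ← mul_assoc, hv]
  rw [← map_mul] at h1
  have h2 : comm V hV h v ∈ (comm V hV g).range ⊓ (comm V hV h).range := by
    refine ⟨?_, ⟨v, rfl⟩⟩
    have h3 : comm V hV h v = (comm V hV g (comm V hV h v * v))⁻¹ := (inv_eq_of_mul_eq_one_right h1).symm
    rw [h3]
    exact Subgroup.inv_mem _ ⟨_, rfl⟩
  rw [hgh, Subgroup.mem_bot] at h2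
  rw [h2, one_mul, mul_one] at h1
  exact ⟨h1, h2⟩

/-- a minimal normal subgroup of a group with square-free class sizes is cyclic. -/
theorem cyclic_of_min (h : Sq G) {V : Subgroup G} (hM : H10.IsMinNormal V)
    (hs : Group.IsSolvable V) : IsCyclic V := by
  obtain ⟨p, hp, hel, hpg, -⟩ := hM.elementary hs
  haveI : Fact p.Prime := ⟨hp⟩
  have hn : V.Normal := hM.1
  have hV : IsMulCommutative V := hel.1
  have hcyc : ∀ R : Subgroup G, R.Normal → R ≤ V → R ≠ ⊥ → Nat.card R ∣ p → IsCyclic V := by
    intro R hR hRV hR1 hRp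
    rcases hM.2.2 R hR hRV with h1 | h1
    · exact absurd h1 hR1
    · rw [← h1]
      apply isCyclic_of_prime_card (p := p)
      rcases (Nat.dvd_prime hp).1 hRp with h2 | h2
      · exact absurd (Subgroup.card_eq_one.1 h2) hR1
      · exact h2
  rcases comm_rank_one V hV hp (fun g => h.relIndex_dvd V hpg g) with ⟨R, hR, hRr⟩ | ⟨g0, hg0, hk⟩
  · by_cases hR1 : R = ⊥
    · -- `V` is central
      obtain ⟨v, hv1⟩ := (Subgroup.ne_bot_iff_exists_ne_one).1 hM.2.1
      have hcen : ∀ g : G, ∀ w ∈ V, g * w = w * g := by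
        intro g w hw
        apply (mem_ker_comm V hV g ⟨w, hw⟩).1
        have h1 : comm V hV g ⟨w, hw⟩ ∈ R := hRr g ⟨_, rfl⟩
        rw [hR1, Subgroup.mem_bot] at h1
        exact h1
      have hzn : (Subgroup.zpowers (v : G)).Normal := by
        apply Solv.normal_of_le_center
        rw [Subgroup.zpowers_le, Subgroup.mem_center_iff]
        exact fun g => hcen g v v.2
      rcases hM.2.2 _ hzn (by rw [Subgroup.zpowers_le]; exact v.2) with h1 | h1
      · exfalso
        rw [Subgroup.zpowers_eq_bot] at h1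
        exact hv1 (Subtype.ext h1)
      · rw [← h1]
        infer_instance
    · have hRn : (R.map V.subtype).Normal := by
        constructor
        rintro _ ⟨r, hr, rfl⟩ g
        have h1 : comm V hV g r ∈ R := hRr g ⟨r, rfl⟩
        refine ⟨comm V hV g r * r, mul_mem h1 hr, ?_⟩
        change (comm V hV g r : G) * (r : G) = _
        rw [comm_apply]
        change g * (r : G) * g⁻¹ * (r : G)⁻¹ * (r : G) = g * (r : G) * g⁻¹
        group
      apply hcyc _ hRn (Subgroup.map_subtype_le R)
      · rwa [Ne, Subgroup.map_eq_bot_iff_of_injective _ V.subtype_injective]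
      · rwa [← Nat.card_congr (Subgroup.equivMapOfInjective R _ V.subtype_injective).toEquiv]
  · have hKn : ((comm V hV g0).ker.map V.subtype).Normal := by
      constructor
      rintro _ ⟨r, hr, rfl⟩ g
      have h1 := (mem_ker_comm V hV g r).1 (hk g hr)
      refine ⟨r, hr, ?_⟩
      change (r : G) = g * (r : G) * g⁻¹
      rw [h1, mul_inv_cancel_right]
    rcases hM.2.2 _ hKn (Subgroup.map_subtype_le _) with h1 | h1
    · rw [Subgroup.map_eq_bot_iff_of_injective _ V.subtype_injective] at h1
      have h2 := Subgroup.index_ker (comm V hV g0)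
      rw [h1, Subgroup.index_bot, card_range_comm] at h2
      have h3 := h.relIndex_dvd V hpg g0
      rw [← h2] at h3
      apply isCyclic_of_prime_card (p := p)
      rcases (Nat.dvd_prime hp).1 h3 with h4 | h4
      · exact absurd (Subgroup.card_eq_one.1 h4) hM.2.1
      · exact h4
    · exfalso
      apply hg0
      rw [MonoidHom.range_eq_bot_iff]
      ext v
      have h2 : (v : G) ∈ (comm V hV g0).ker.map V.subtype := by
        rw [h1]
        exact v.2
      obtain ⟨w, hw, hwv⟩ := h2
      have h3 : w = v := Subtype.ext hwv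
      rw [← h3, MonoidHom.mem_ker.1 hw]
      rfl

end MinN

section SS

theorem supersolvable_aux : ∀ n : ℕ, ∀ (G : Type u) [Group G] [Finite G], Nat.card G ≤ n →
    Group.IsSolvable G → Sq G → IsSupersolvable G := by
  intro n
  induction n with
  | zero =>
    intro G _ _ hn
    exact absurd hn (by have := Nat.card_pos (α := G); omega)
  | succ n ih =>
    intro G _ _ hn hs h
    rcases subsingleton_or_nontrivial G with h1 | h1
    · exact Supersolvable.of_subsingleton
    · obtain ⟨M, hM⟩ := H10.exists_isMinNormal (G := G)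
      have hMn : M.Normal := hM.1
      have hc := cyclic_of_min h hM inferInstance
      apply Supersolvable.of_isCyclic_normal M hc
      apply ih _ _ inferInstance (h.quotient M)
      have h2 := Supersolvable.card_quotient_lt M hM.2.1
      omega

theorem Sq.supersolvable {G : Type u} [Group G] [Finite G] (h : Sq G) : IsSupersolvable G :=
  supersolvable_aux _ G le_rfl h.solvable h

end SS

section FourA

variable {X : Type*} [Group X] [Finite X]

/-- if all the orbits of a `p`-group on an abelian `p'`-group have size at most `p`, then so has the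
image. -/
theorem abelian_act {p : ℕ} [hp : Fact p.Prime] {V P : Subgroup X} (hV : IsMulCommutative V)
    (hP : IsPGroup p P) (hcop : (Nat.card V).Coprime p) (hPV : P ≤ normalizer (V : Set X))
    (h : ∀ w ∈ V, (centralizer ({w} : Set X)).relIndex P ∣ p) :
    (centralizer (V : Set X)).relIndex P ∣ p := by
  by_cases h0 : ∀ w ∈ V, P ≤ centralizer ({w} : Set X)
  · have h1 : P ≤ centralizer (V : Set X) := by
      intro g hg
      rw [mem_centralizer_iff]
      intro w hw
      exact (mem_centralizer_singleton_iff.1 (h0 w hw hg)).symm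
    rw [relIndex_eq_one.2 h1]
    exact one_dvd _
  push Not at h0
  obtain ⟨w1, hw1, hPw⟩ := h0
  have hidx : (centralizer ({w1} : Set X)).relIndex P = p := by
    rcases (Nat.dvd_prime hp.out).1 (h w1 hw1) with h1 | h1
    · exact absurd (relIndex_eq_one.1 h1) hPw
    · exact h1
  set A := centralizer ({w1} : Set X) ⊓ P with hA
  have hAP : A ≤ P := inf_le_right
  have hAn : (A.subgroupOf P).Normal := by
    apply normal_of_index_eq_minFac_card
    have h1 : (A.subgroupOf P).index = p := by
      rw [← hidx, ← inf_relIndex_right]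
      rfl
    obtain ⟨k, hk⟩ := IsPGroup.iff_card.1 hP
    rw [h1, hk, Nat.Prime.pow_minFac hp.out]
    rintro rfl
    rw [pow_zero] at hk
    have h2 := relIndex_dvd_card (centralizer ({w1} : Set X)) P
    rw [hidx, hk] at h2
    exact hp.out.one_lt.ne' (Nat.dvd_one.1 h2)
  have hPA : P ≤ normalizer (A : Set X) := (Subgroup.normal_subgroupOf_iff_le_normalizer hAP).1 hAn
  have hAcop : (Nat.card A).Coprime (Nat.card V) := by
    obtain ⟨k, hk⟩ := IsPGroup.iff_card.1 (hP.to_le hAP)
    rw [hk]
    exact (Nat.Coprime.pow_right k hcop).symm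
  have hAV : A ≤ normalizer (V : Set X) := hAP.trans hPV
  obtain ⟨hd1, hd2⟩ := H91.abelian_decomp A V hAV hAcop
  by_cases h1 : A ≤ centralizer (V : Set X)
  · have h2 : centralizer (V : Set X) ⊓ P = A := by
      apply le_antisymm
      · refine le_inf (fun g hg => ?_) inf_le_right
        rw [mem_centralizer_singleton_iff]
        exact (mem_centralizer_iff.1 hg.1 w1 hw1).symm
      · exact le_inf h1 hAP
    rw [← inf_relIndex_right, h2, hA, inf_relIndex_right]
    exact h w1 hw1
  exfalso
  obtain ⟨a, ha, hav⟩ := SetLike.not_le_iff_exists.1 h1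
  rw [mem_centralizer_iff] at hav
  push Not at hav
  obtain ⟨v, hv, hva⟩ := hav
  obtain ⟨u, hu, c, hc, hvuc⟩ := Cop.exists_eq_mul_of_mem hAV hAcop
    (Or.inl (show Group.IsSolvable A from by
      have : Group.IsNilpotent A := (hP.to_le hAP).isNilpotent
      infer_instance)) hv
  have huV : u ∈ V := by
    have h3 : ⁅V, A⁆ ≤ V := by
      conv_rhs => rw [← hd2]
      exact le_sup_right
    exact h3 hu
  have hua : u * a ≠ a * u := by
    intro h3
    apply hva
    have h4 : a * c = c * a := mem_centralizer_iff.1 hc.2 a ha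
    rw [hvuc, mul_assoc, ← h4, ← mul_assoc, h3, mul_assoc]
  have hcV : ∀ g ∈ P, ∀ x ∈ V ⊓ centralizer (A : Set X), g * x * g⁻¹ ∈ V ⊓ centralizer (A : Set X) := by
    intro g hg x hx
    refine mem_inf.2 ⟨(mem_normalizer_iff.1 (hPV hg) x).1 hx.1, mem_centralizer_iff.2 ?_⟩
    intro b hb
    have h3 : g⁻¹ * b * g ∈ A := by
      have := (mem_normalizer_iff.1 (inv_mem (hPA hg)) b).1 hb
      rwa [inv_inv] at this
    have h4 := mem_centralizer_iff.1 hx.2 _ h3
    calc b * (g * x * g⁻¹) = g * ((g⁻¹ * b * g) * x) * g⁻¹ := by group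
      _ = g * (x * (g⁻¹ * b * g)) * g⁻¹ := by rw [h4]
      _ = g * x * g⁻¹ * b := by group
  have hcom : ∀ g ∈ P, ∀ x ∈ ⁅V, A⁆, g * x * g⁻¹ ∈ ⁅V, A⁆ := by
    intro g hg x hx
    have h3 : (⁅V, A⁆).map (MulAut.conj g).toMonoidHom = ⁅V, A⁆ := by
      rw [map_commutator]
      congr 1
      · exact Cop.conj_smul_eq_of_mem_normalizer (hPV hg)
      · exact Cop.conj_smul_eq_of_mem_normalizer (hPA hg)
    rw [← h3]
    exact ⟨x, hx, rfl⟩
  have hw1A : w1 ∈ V ⊓ centralizer (A : Set X) := by
    refine mem_inf.2 ⟨hw1, mem_centralizer_iff.2 ?_⟩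
    intro b hb
    exact mem_centralizer_singleton_iff.1 (mem_inf.1 hb).1
  have hsub : centralizer ({w1 * u} : Set X) ⊓ P < A := by
    have h5 : centralizer ({w1 * u} : Set X) ⊓ P ≤ A ⊓ centralizer ({u} : Set X) := by
      rintro g ⟨hg1, hg2⟩
      have h3 : g * (w1 * u) = w1 * u * g := mem_centralizer_singleton_iff.1 hg1
      have h4 : w1⁻¹ * (g * w1 * g⁻¹) = u * (g * u * g⁻¹)⁻¹ := by
        calc w1⁻¹ * (g * w1 * g⁻¹) = w1⁻¹ * (g * (w1 * u)) * g⁻¹ * (g * u * g⁻¹)⁻¹ := by group
          _ = w1⁻¹ * (w1 * u * g) * g⁻¹ * (g * u * g⁻¹)⁻¹ := by rw [h3]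
          _ = _ := by group
      have h5 : w1⁻¹ * (g * w1 * g⁻¹) ∈ (V ⊓ centralizer (A : Set X)) ⊓ ⁅V, A⁆ := by
        refine mem_inf.2 ⟨mul_mem (inv_mem hw1A) (hcV g hg2 w1 hw1A), ?_⟩
        rw [h4]
        exact mul_mem hu (inv_mem (hcom g hg2 u hu))
      rw [hd1, mem_bot] at h5
      have h6 : g * w1 = w1 * g := by
        rw [inv_mul_eq_one] at h5
        exact (eq_mul_inv_iff_mul_eq.1 h5).symm
      have h7 : g * u = u * g := by
        have h8 : w1 * (g * u) = w1 * (u * g) := by
          rw [← mul_assoc, ← h6, mul_assoc, h3, mul_assoc]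
        exact mul_left_cancel h8
      exact ⟨⟨mem_centralizer_singleton_iff.2 h6, hg2⟩, mem_centralizer_singleton_iff.2 h7⟩
    refine lt_of_le_of_ne (h5.trans inf_le_left) ?_
    intro h6
    have h7 : a ∈ centralizer ({w1 * u} : Set X) ⊓ P := by
      rw [h6]
      exact ha
    exact hua (mem_centralizer_singleton_iff.1 (h5 h7).2).symm
  have hc1 : Nat.card ↥(centralizer ({w1 * u} : Set X) ⊓ P) < Nat.card A := by
    apply Nat.lt_of_not_le
    intro hle
    exact hsub.ne (Subgroup.eq_of_le_of_card_ge hsub.le hle)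
  have hc2 : Nat.card A * p = Nat.card P := by
    rw [← hidx]
    exact card_inf_mul_relIndex _ _
  have hc3 := card_inf_mul_relIndex (centralizer ({w1 * u} : Set X)) P
  have hc4 : (centralizer ({w1 * u} : Set X)).relIndex P ≤ p :=
    Nat.le_of_dvd hp.out.pos (h _ (mul_mem hw1 huV))
  have hc5 : Nat.card ↥(centralizer ({w1 * u} : Set X) ⊓ P) * (centralizer ({w1 * u} : Set X)).relIndex P <
      Nat.card A * p :=
    lt_of_le_of_lt (Nat.mul_le_mul_left _ hc4) (Nat.mul_lt_mul_of_pos_right hc1 hp.out.pos)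
  rw [hc3, hc2] at hc5
  exact lt_irrefl _ hc5

end FourA

section Fit

/-- in a finite nilpotent group the derived subgroup lies in the Frattini subgroup. -/
theorem commutator_le_frattini {P : Type*} [Group P] [Finite P] (h : Group.IsNilpotent P) :
    commutator P ≤ frattini P := by
  rw [frattini, Order.radical]
  refine le_iInf₂ fun N hN => ?_
  have hn : N.Normal :=
    Subgroup.NormalizerCondition.normal_of_coatom _ Group.normalizerCondition_of_isNilpotent hN
  by_contra hcon
  have h1 : commutator P ⊔ N = ⊤ := hN.2 _ (by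
    refine lt_of_le_of_ne le_sup_right ?_
    intro h2
    exact hcon (h2 ▸ le_sup_left))
  have hnt : Nontrivial (P ⧸ N) := by
    rw [QuotientGroup.nontrivial_iff]
    exact hN.1
  have h2 : commutator (P ⧸ N) = ⊤ := by
    have h3 : (commutator P).map (QuotientGroup.mk' N) = commutator (P ⧸ N) := by
      rw [commutator_def, commutator_def, Subgroup.map_commutator,
        Subgroup.map_top_of_surjective _ (QuotientGroup.mk'_surjective N)]
    rw [← h3]
    have h4 : (commutator P ⊔ N).map (QuotientGroup.mk' N) = ⊤ := by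
      rw [h1, Subgroup.map_top_of_surjective _ (QuotientGroup.mk'_surjective N)]
    rw [Subgroup.map_sup, (Subgroup.map_eq_bot_iff N).mpr (by rw [QuotientGroup.ker_mk']), sup_bot_eq] at h4
    exact h4
  have h5 : Group.IsSolvable (P ⧸ N) := inferInstance
  exact absurd h2 (Group.IsSolvable.commutator_lt_top_of_nontrivial (P ⧸ N)).ne

/-- The product of two commuting nilpotent subgroups is nilpotent. -/
theorem nilpotent_sup {G : Type*} [Group G] {A B : Subgroup G} (hA : Group.IsNilpotent A)
    (hB : Group.IsNilpotent B) (hc : ∀ a ∈ A, ∀ b ∈ B, a * b = b * a) : Group.IsNilpotent (A ⊔ B : Subgroup G) := by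
  let f : A × B →* G := MonoidHom.noncommCoprod A.subtype B.subtype (fun a b => hc a a.2 b b.2)
  have hf : f.range = A ⊔ B := by
    have h := MonoidHom.noncommCoprod_range A.subtype B.subtype (fun a b => hc a a.2 b b.2)
    rw [Subgroup.range_subtype, Subgroup.range_subtype] at h
    exact h
  rw [← hf]
  exact Group.nilpotent_of_surjective f.rangeRestrict f.rangeRestrict_surjective

theorem nilpotent_of_le {G : Type*} [Group G] {A B : Subgroup G} (h : A ≤ B) (hB : Group.IsNilpotent B) :
    Group.IsNilpotent A := by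
  have h1 : Group.IsNilpotent (A.subgroupOf B) := inferInstance
  exact Group.nilpotent_of_surjective (Subgroup.subgroupOfEquivOfLe h).toMonoidHom
    (Subgroup.subgroupOfEquivOfLe h).surjective

variable {G : Type*} [Group G] [Finite G] {p : ℕ} [hp : Fact p.Prime]

theorem fitting_eq : fittingSubgroup G = pCore p G ⊔ (fittingSubgroup G ⊓ pPrimeCore p G) := by
  apply le_antisymm
  · conv_lhs => rw [Solv.fitting_eq_iSup_pCore]
    refine iSup_le fun q => ?_
    haveI : Fact (q : ℕ).Prime := ⟨q.2⟩
    by_cases hq : (q : ℕ) = p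
    · rw [hq]
      exact le_sup_left
    · refine le_trans ?_ le_sup_right
      refine le_inf (Solv.pCore_le_fitting _) (Solv.le_pPrimeCore inferInstance ?_)
      obtain ⟨k, hk⟩ := IsPGroup.iff_card.1 (Solv.pCore_isPGroup (G := G) (q : ℕ))
      rw [hk]
      exact Nat.Coprime.pow_left _ ((Nat.coprime_primes q.2 hp.out).2 hq)
  · exact sup_le (Solv.pCore_le_fitting _) inf_le_left

theorem coprime_V0 : (Nat.card ↥(fittingSubgroup G ⊓ pPrimeCore p G)).Coprime p :=
  Nat.Coprime.coprime_dvd_left (Subgroup.card_dvd_of_le inf_le_right) (Solv.pPrimeCore_card_coprime p)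

theorem pCore_comm {a b : G} (ha : a ∈ pCore p G) (hb : b ∈ fittingSubgroup G ⊓ pPrimeCore p G) :
    a * b = b * a := by
  apply Subgroup.commute_of_normal_of_disjoint (pCore p G) (pPrimeCore p G) inferInstance inferInstance _ a b ha
    (mem_inf.1 hb).2
  rw [disjoint_iff]
  apply Cop.inf_eq_bot_of_coprime
  obtain ⟨k, hk⟩ := IsPGroup.iff_card.1 (Solv.pCore_isPGroup (G := G) p)
  rw [hk]
  exact Nat.Coprime.pow_left _ (Solv.pPrimeCore_card_coprime p).symm

theorem le_fitting_of_centralizes (hcomm : commutator G ≤ fittingSubgroup G) (P : Sylow p G)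
    {P0 : Subgroup G} (h1 : P0 ≤ P) (h2 : ∀ a ∈ P0, ∀ b ∈ fittingSubgroup G ⊓ pPrimeCore p G, a * b = b * a) :
    P0 ≤ fittingSubgroup G := by
  have hle : P0 ⊔ pCore p G ≤ P := sup_le h1 (Solv.pCore_le_sylow P)
  have hn1 : Group.IsNilpotent ↥(P0 ⊔ pCore p G) := (P.2.to_le hle).isNilpotent
  have hn2 : Group.IsNilpotent ↥(fittingSubgroup G ⊓ pPrimeCore p G) :=
    nilpotent_of_le inf_le_left Solv.fitting_isNilpotent
  have hc : ∀ a ∈ P0 ⊔ pCore p G, ∀ b ∈ fittingSubgroup G ⊓ pPrimeCore p G, a * b = b * a := by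
    intro a ha b hb
    have h3 : P0 ⊔ pCore p G ≤ centralizer ({b} : Set G) := by
      refine sup_le (fun x hx => ?_) (fun x hx => ?_)
      · exact mem_centralizer_singleton_iff.2 (h2 x hx b hb)
      · exact mem_centralizer_singleton_iff.2 (pCore_comm hx hb)
    exact mem_centralizer_singleton_iff.1 (h3 ha)
  have hn : Group.IsNilpotent ↥((P0 ⊔ pCore p G) ⊔ (fittingSubgroup G ⊓ pPrimeCore p G)) :=
    nilpotent_sup hn1 hn2 hc
  have hle2 : fittingSubgroup G ≤ (P0 ⊔ pCore p G) ⊔ (fittingSubgroup G ⊓ pPrimeCore p G) := by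
    conv_lhs => rw [fitting_eq (p := p)]
    exact sup_le (le_sup_right.trans le_sup_left) le_sup_right
  have hnorm : ((P0 ⊔ pCore p G) ⊔ (fittingSubgroup G ⊓ pPrimeCore p G)).Normal :=
    Subgroup.Normal.of_commutator_le G (hcomm.trans hle2)
  exact (le_sup_left.trans le_sup_left).trans (Solv.le_fitting hnorm hn)

theorem relIndex_sup_of_le {C P V : Subgroup G} [V.Normal] (hV : V ≤ C) :
    C.relIndex (P ⊔ V) = C.relIndex P := by
  have h1 : C ⊓ (P ⊔ V) = (C ⊓ P) ⊔ V := by
    apply le_antisymm
    · rintro x ⟨hx, hx2⟩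
      obtain ⟨a, ha, v, hv, rfl⟩ := Subgroup.mem_sup_of_normal_right.1 hx2
      have h2 : a ∈ C := by
        have := C.mul_mem hx (inv_mem (hV hv))
        rwa [mul_inv_cancel_right] at this
      exact mul_mem (mem_sup_left (mem_inf.2 ⟨h2, ha⟩)) (mem_sup_right hv)
    · exact sup_le (inf_le_inf_left _ le_sup_left) (le_inf hV le_sup_right)
  have e1 := card_inf_mul_relIndex C (P ⊔ V)
  have e2 := card_inf_mul_relIndex C P
  have e3 := Solv.mul_card_sup_of_normal P V
  have e4 := Solv.mul_card_sup_of_normal (C ⊓ P) V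
  have h3 : (C ⊓ P) ⊓ V = P ⊓ V := by
    rw [inf_comm C P, inf_assoc, inf_eq_right.2 hV]
  rw [h3, ← h1] at e4
  have hpos : 0 < Nat.card ↥(C ⊓ P) * Nat.card V := Nat.mul_pos Nat.card_pos Nat.card_pos
  apply Nat.eq_of_mul_eq_mul_left hpos
  calc Nat.card ↥(C ⊓ P) * Nat.card V * C.relIndex (P ⊔ V) =
      Nat.card ↥(C ⊓ (P ⊔ V)) * Nat.card ↥(P ⊓ V) * C.relIndex (P ⊔ V) := by rw [e4]
    _ = (Nat.card ↥(C ⊓ (P ⊔ V)) * C.relIndex (P ⊔ V)) * Nat.card ↥(P ⊓ V) := by ring
    _ = Nat.card P * Nat.card V := by rw [e1, e3]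
    _ = (Nat.card ↥(C ⊓ P) * C.relIndex P) * Nat.card V := by rw [e2]
    _ = _ := by ring

theorem dvd_of_squarefree {n m : ℕ} (h : Squarefree n) (hn : n ∣ p ^ m) : n ∣ p := by
  obtain ⟨j, _, hj⟩ := (Nat.dvd_prime_pow hp.out).1 hn
  rw [hj] at h ⊢
  rcases Nat.lt_or_ge j 2 with hj2 | hj2
  · exact (pow_dvd_pow p (by omega : j ≤ 1)).trans (by rw [pow_one])
  · exfalso
    have h3 := (Nat.squarefree_iff_prime_squarefree.1 h) p hp.out
    exact h3 (by rw [← pow_two]; exact pow_dvd_pow p hj2)

theorem relIndex_fitting (h : Sq G) (hcomm : commutator G ≤ fittingSubgroup G) (P : Sylow p G) :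
    (fittingSubgroup G).relIndex P ∣ p := by
  set V0 := fittingSubgroup G ⊓ pPrimeCore p G with hV0
  have hV0n : V0.Normal := inferInstance
  have hV0nil : Group.IsNilpotent V0 := nilpotent_of_le inf_le_left Solv.fitting_isNilpotent
  set D := ⁅V0, V0⁆ with hD
  have hDn : D.Normal := inferInstance
  have hVab : IsMulCommutative ↥(V0.map (QuotientGroup.mk' D)) := by
    rw [Solv.isMulCommutative_iff_commutator_eq_bot, ← Subgroup.map_commutator, Subgroup.map_eq_bot_iff,
      QuotientGroup.ker_mk']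
  have hVn : (V0.map (QuotientGroup.mk' D)).Normal := hV0n.map _ (QuotientGroup.mk'_surjective D)
  have hP1 : IsPGroup p ↥((P : Subgroup G).map (QuotientGroup.mk' D)) := P.2.map _
  have hVcop : (Nat.card ↥(V0.map (QuotientGroup.mk' D))).Coprime p :=
    Nat.Coprime.coprime_dvd_left (Subgroup.card_map_dvd _ _) coprime_V0
  have hle : fittingSubgroup G ≤ (P : Subgroup G) ⊔ V0 := by
    conv_lhs => rw [fitting_eq (p := p)]
    exact sup_le ((Solv.pCore_le_sylow P).trans le_sup_left) le_sup_right
  have hPVn : ((P : Subgroup G) ⊔ V0).Normal := Subgroup.Normal.of_commutator_le G (hcomm.trans hle)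
  have hXn : (((P : Subgroup G) ⊔ V0).map (QuotientGroup.mk' D)).Normal :=
    hPVn.map _ (QuotientGroup.mk'_surjective D)
  have horb : ∀ w ∈ V0.map (QuotientGroup.mk' D), (centralizer ({w} : Set (G ⧸ D))).relIndex
      ((P : Subgroup G).map (QuotientGroup.mk' D)) ∣ p := by
    intro w hw
    have h1 : V0.map (QuotientGroup.mk' D) ≤ centralizer ({w} : Set (G ⧸ D)) := by
      intro v hv
      exact mem_centralizer_singleton_iff.2 (Solv.comm_of_isMulCommutative hVab hv hw)
    have h2 := (h.quotient D).relIndex (((P : Subgroup G) ⊔ V0).map (QuotientGroup.mk' D)) w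
    rw [Subgroup.map_sup, relIndex_sup_of_le h1] at h2
    obtain ⟨k, hk⟩ := IsPGroup.iff_card.1 hP1
    exact dvd_of_squarefree h2 (m := k) (by rw [← hk]; exact Subgroup.relIndex_dvd_card _ _)
  have h3 := abelian_act hVab hP1 hVcop (le_normalizer_of_normal) horb
  rw [← Subgroup.relIndex_comap] at h3
  refine dvd_trans ?_ h3
  rw [← inf_relIndex_right ((centralizer _).comap _)]
  apply relIndex_dvd_of_le_left
  apply le_fitting_of_centralizes hcomm P inf_le_right
  have h4 : (centralizer (V0.map (QuotientGroup.mk' D) : Set (G ⧸ D))).comap (QuotientGroup.mk' D) ⊓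
      (P : Subgroup G) ≤ centralizer (V0 : Set G) := by
    apply Cop.le_centralizer_of_frattini
    · exact le_normalizer_of_normal
    · obtain ⟨k, hk⟩ := IsPGroup.iff_card.1 (P.2.to_le (inf_le_right :
        (centralizer (V0.map (QuotientGroup.mk' D) : Set (G ⧸ D))).comap (QuotientGroup.mk' D) ⊓
          (P : Subgroup G) ≤ P))
      rw [hk]
      apply Nat.Coprime.pow_left
      exact (Nat.Coprime.coprime_dvd_left (Subgroup.card_subgroup_dvd_card _) coprime_V0).symm
    · intro a ha k hk
      have h5 : a * k * a⁻¹ * k⁻¹ ∈ D := by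
        rw [← QuotientGroup.ker_mk' D, MonoidHom.mem_ker, map_mul, map_mul, map_mul, map_inv, map_inv]
        have h6 := mem_centralizer_iff.1 (mem_comap.1 (mem_inf.1 ha).1) _ (mem_map_of_mem (QuotientGroup.mk' D) hk)
        rw [← h6, mul_inv_cancel_right, mul_inv_cancel]
      have h7 : D = (commutator V0).map V0.subtype := by
        rw [_root_.commutator_def, Subgroup.map_commutator, ← MonoidHom.range_eq_map, Subgroup.range_subtype]
      rw [h7] at h5
      exact (Subgroup.map_mono (commutator_le_frattini hV0nil)) h5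
  intro a ha b hb
  exact (mem_centralizer_iff.1 (h4 ha) b hb).symm

end Fit

section Idx

theorem squarefree_index_fitting {G : Type*} [Group G] [Finite G] (h : Sq G)
    (hcomm : commutator G ≤ fittingSubgroup G) : Squarefree (fittingSubgroup G).index := by
  rw [Nat.squarefree_iff_prime_squarefree]
  intro p hp hpp
  haveI : Fact p.Prime := ⟨hp⟩
  obtain ⟨P⟩ : Nonempty (Sylow p G) := inferInstance
  have h1 := relIndex_mul_index (le_sup_right : fittingSubgroup G ≤ (P : Subgroup G) ⊔ fittingSubgroup G)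
  rw [relIndex_sup_right] at h1
  have h2 : (((P : Subgroup G) ⊔ fittingSubgroup G).index).Coprime p :=
    Nat.Coprime.coprime_dvd_left (index_dvd_of_le le_sup_left) (Transfer.coprime_index_sylow P)
  rw [← h1] at hpp
  have h3 : p * p ∣ (fittingSubgroup G).relIndex P :=
    (Nat.Coprime.mul_left h2.symm h2.symm).dvd_of_dvd_mul_right hpp
  have h4 := h3.trans (relIndex_fitting h hcomm P)
  have h5 := Nat.le_of_dvd hp.pos h4
  have h6 := hp.two_le
  nlinarith

theorem cyclic_of_squarefree {G : Type*} [Group G] [Finite G] (h : Squarefree (Nat.card G))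
    (hn : Group.IsNilpotent G) : IsCyclic G := by
  have : IsZGroup G := IsZGroup.of_squarefree h
  infer_instance

theorem cyclic_quotient_fitting {G : Type*} [Group G] [Finite G] (h : Sq G)
    (hcomm : commutator G ≤ fittingSubgroup G) : IsCyclic (G ⧸ fittingSubgroup G) := by
  have h1 := squarefree_index_fitting h hcomm
  rw [Subgroup.index_eq_card] at h1
  apply cyclic_of_squarefree h1
  have h2 : IsMulCommutative (G ⧸ fittingSubgroup G) :=
    Subgroup.Normal.quotient_commutative_iff_commutator_le.2 hcomm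
  have h3 : ∀ a b : G ⧸ fittingSubgroup G, a * b = b * a := fun a b => h2.is_comm.comm a b
  have h4 : Subgroup.center (G ⧸ fittingSubgroup G) = ⊤ := by
    rw [eq_top_iff]
    intro a _
    rw [Subgroup.mem_center_iff]
    exact fun b => h3 b a
  exact ⟨1, by rw [Subgroup.upperCentralSeries_one, h4]⟩

end Idx

section PG

variable {p : ℕ} [hp : Fact p.Prime]

theorem commutator_le_of_index_dvd {P : Type*} [Group P] [Finite P] (hP : IsPGroup p P) {M : Subgroup P}
    (h : M.index ∣ p) : commutator P ≤ M := by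
  rcases (Nat.dvd_prime hp.out).1 h with h1 | h1
  · rw [Subgroup.index_eq_one.1 h1]
    exact le_top
  · have hn : M.Normal := by
      apply normal_of_index_eq_minFac_card
      obtain ⟨k, hk⟩ := IsPGroup.iff_card.1 hP
      rw [h1, hk, Nat.Prime.pow_minFac hp.out]
      rintro rfl
      rw [pow_zero] at hk
      have h2 := Subgroup.index_dvd_card M
      rw [h1, hk] at h2
      exact hp.out.one_lt.ne' (Nat.dvd_one.1 h2)
    have hc : IsCyclic (P ⧸ M) := by
      apply isCyclic_of_prime_card (p := p)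
      rw [← Subgroup.index_eq_card, h1]
    rw [← Subgroup.Normal.quotient_commutative_iff_commutator_le]
    exact hc.isMulCommutative

/-- Knoche's theorem. -/
theorem knoche {P : Type*} [Group P] [Finite P] (hP : IsPGroup p P)
    (h : ∀ a : P, (centralizer ({a} : Set P)).index ∣ p) : Nat.card (commutator P) ∣ p := by
  have hcen : ∀ z ∈ commutator P, ∀ a : P, z * a = a * z := fun z hz a =>
    mem_centralizer_singleton_iff.1 (commutator_le_of_index_dvd hP (h a) hz)
  have hmem : ∀ v a : P, v * a * v⁻¹ * a⁻¹ ∈ commutator P := fun v a =>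
    commutator_mem_commutator (mem_top v) (mem_top a)
  let φ : P → P →* P := fun a =>
    { toFun := fun v => v * a * v⁻¹ * a⁻¹
      map_one' := by group
      map_mul' := by
        intro v w
        have h1 := hcen _ (hmem w a) v⁻¹
        calc v * w * a * (v * w)⁻¹ * a⁻¹ = v * ((w * a * w⁻¹ * a⁻¹) * a * v⁻¹) * a⁻¹ := by group
          _ = v * ((w * a * w⁻¹ * a⁻¹) * (a * v⁻¹)) * a⁻¹ := by group
          _ = v * ((a * v⁻¹) * (w * a * w⁻¹ * a⁻¹)) * a⁻¹ := by rw [hcen _ (hmem w a) (a * v⁻¹)]
          _ = (v * a * v⁻¹) * ((w * a * w⁻¹ * a⁻¹) * a⁻¹) := by group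
          _ = (v * a * v⁻¹) * (a⁻¹ * (w * a * w⁻¹ * a⁻¹)) := by rw [hcen _ (hmem w a) a⁻¹]
          _ = v * a * v⁻¹ * a⁻¹ * (w * a * w⁻¹ * a⁻¹) := by group }
  have hφ : ∀ a v, φ a v = v * a * v⁻¹ * a⁻¹ := fun _ _ => rfl
  have hker : ∀ a v, v ∈ (φ a).ker ↔ v * a = a * v := by
    intro a v
    rw [MonoidHom.mem_ker, hφ, mul_inv_eq_one, mul_inv_eq_iff_eq_mul]
  have hcard : ∀ a, Nat.card (φ a).range ∣ p := by
    intro a
    rw [← Subgroup.index_ker]
    have h1 : (φ a).ker = centralizer ({a} : Set P) := by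
      ext v
      rw [hker, mem_centralizer_singleton_iff]
    rw [h1]
    exact h a
  rcases rank_one φ hp.out hcard (by
    intro a b hab
    refine ⟨a * b, fun v hv => ?_⟩
    rw [MonoidHom.mem_ker, hφ] at hv
    have h1 : φ a v * φ b v = 1 := by
      rw [hφ, hφ, ← hv, ← hcen _ (hmem v b)]
      have h2 := hcen _ (hmem v b) a
      calc v * b * v⁻¹ * b⁻¹ * (v * a * v⁻¹ * a⁻¹) = (v * a * v⁻¹ * a⁻¹) * (v * b * v⁻¹ * b⁻¹) := by
            rw [hcen _ (hmem v b)]
        _ = (v * a * v⁻¹) * (a⁻¹ * (v * b * v⁻¹ * b⁻¹)) := by group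
        _ = (v * a * v⁻¹) * ((v * b * v⁻¹ * b⁻¹) * a⁻¹) := by rw [hcen _ (hmem v b) a⁻¹]
        _ = v * (a * b) * v⁻¹ * (a * b)⁻¹ := by group
    have h3 : φ a v ∈ (φ a).range ⊓ (φ b).range := by
      refine mem_inf.2 ⟨⟨v, rfl⟩, ?_⟩
      rw [eq_inv_of_mul_eq_one_left h1]
      exact inv_mem (s := (φ b).range) ⟨v, rfl⟩
    rw [hab, mem_bot] at h3
    rw [h3, one_mul] at h1
    exact ⟨h3, h1⟩) with ⟨R, hR, hRr⟩ | ⟨a, ha, hk⟩
  · refine dvd_trans (Subgroup.card_dvd_of_le ?_) hR
    rw [_root_.commutator_def, Subgroup.commutator_le]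
    intro v _ a _
    exact hRr a ⟨v, rfl⟩
  · exfalso
    apply ha
    rw [MonoidHom.range_eq_bot_iff]
    ext v
    have h1 : a ∈ (φ v).ker := hk v ((hker a a).2 rfl)
    exact (hker a v).2 ((hker v a).1 h1).symm

theorem commutator_le_of_gen {H : Type*} [Group H] {N P Q : Subgroup H} [N.Normal] (hPQ : P ⊔ Q = ⊤)
    (h1 : ⁅P, P⁆ ≤ N) (h2 : ⁅P, Q⁆ ≤ N) (h3 : ⁅Q, Q⁆ ≤ N) : commutator H ≤ N := by
  have hA : ∀ A B : Subgroup H, ⁅A, B⁆ ≤ N →
      A ≤ (centralizer (B.map (QuotientGroup.mk' N) : Set (H ⧸ N))).comap (QuotientGroup.mk' N) := by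
    intro A B hAB a ha
    rw [mem_comap, mem_centralizer_iff]
    rintro _ ⟨b, hb, rfl⟩
    have h4 : a * b * a⁻¹ * b⁻¹ ∈ N := hAB (commutator_mem_commutator ha hb)
    rw [← QuotientGroup.ker_mk' N, MonoidHom.mem_ker, map_mul, map_mul, map_mul, map_inv, map_inv,
      mul_inv_eq_one, mul_inv_eq_iff_eq_mul] at h4
    exact h4.symm
  have hP : (⊤ : Subgroup H) ≤ (centralizer (P.map (QuotientGroup.mk' N) : Set (H ⧸ N))).comap (QuotientGroup.mk' N) := by
    rw [← hPQ]
    exact sup_le (hA _ _ h1) (hA _ _ (by rwa [commutator_comm]))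
  have hQ : (⊤ : Subgroup H) ≤ (centralizer (Q.map (QuotientGroup.mk' N) : Set (H ⧸ N))).comap (QuotientGroup.mk' N) := by
    rw [← hPQ]
    exact sup_le (hA _ _ h2) (hA _ _ h3)
  have hcen : (⊤ : Subgroup H) ≤ (center (H ⧸ N)).comap (QuotientGroup.mk' N) := by
    rw [← hPQ]
    refine sup_le (fun a ha => ?_) (fun a ha => ?_)
    · rw [mem_comap, mem_center_iff]
      intro g
      obtain ⟨g, rfl⟩ := QuotientGroup.mk'_surjective N g
      exact (mem_centralizer_iff.1 (mem_comap.1 (hP (mem_top g))) _ (mem_map_of_mem _ ha)).symm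
    · rw [mem_comap, mem_center_iff]
      intro g
      obtain ⟨g, rfl⟩ := QuotientGroup.mk'_surjective N g
      exact (mem_centralizer_iff.1 (mem_comap.1 (hQ (mem_top g))) _ (mem_map_of_mem _ ha)).symm
  rw [_root_.commutator_def, Subgroup.commutator_le]
  intro a _ b _
  have h5 := mem_center_iff.1 (mem_comap.1 (hcen (mem_top b))) (QuotientGroup.mk' N a)
  rw [← QuotientGroup.ker_mk' N, MonoidHom.mem_ker, commutatorElement_def, map_mul, map_mul, map_mul,
    map_inv, map_inv, mul_inv_eq_one, mul_inv_eq_iff_eq_mul]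
  exact h5

end PG

section Five

variable {p : ℕ} [hp : Fact p.Prime]

theorem comm_of_center_index {W : Type*} [Group W] [Finite W] (h : (center W).index ∣ p) :
    ∀ a b : W, a * b = b * a := by
  have hc : IsCyclic (W ⧸ center W) := by
    rcases (Nat.dvd_prime hp.out).1 h with h1 | h1
    · have h2 : Subsingleton (W ⧸ center W) := by
        rw [← Finite.card_le_one_iff_subsingleton, ← Subgroup.index_eq_card, h1]
      infer_instance
    · apply isCyclic_of_prime_card (p := p)
      rw [← Subgroup.index_eq_card, h1]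
  exact commutative_of_cyclic_center_quotient (QuotientGroup.mk' (center W)) (by rw [QuotientGroup.ker_mk'])

theorem card_commutator_core {H : Type*} [Group H] [Finite H] (h : Sq H)
    (hcomm : commutator H ≤ fittingSubgroup H) (hO : pPrimeCore p H = ⊥) :
    Nat.card (commutator H) ∣ p := by
  obtain ⟨P0⟩ : Nonempty (Sylow p H) := inferInstance
  have hV0 : fittingSubgroup H ⊓ pPrimeCore p H = ⊥ := by rw [hO, inf_bot_eq]
  have hPF : (P0 : Subgroup H) ≤ fittingSubgroup H := by
    apply le_fitting_of_centralizes hcomm P0 le_rfl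
    intro a _ b hb
    rw [hV0, mem_bot] at hb
    rw [hb, mul_one, one_mul]
  have hFP : fittingSubgroup H ≤ P0 := by
    rw [fitting_eq (p := p), hV0, sup_bot_eq]
    exact Solv.pCore_le_sylow P0
  have hPeq : (P0 : Subgroup H) = fittingSubgroup H := le_antisymm hPF hFP
  set P : Subgroup H := fittingSubgroup H with hP
  have hPn : P.Normal := inferInstance
  have hPp : IsPGroup p P := by
    rw [← hPeq]
    exact P0.2
  have hPi : (P.index).Coprime p := by
    rw [← hPeq]
    exact Transfer.coprime_index_sylow P0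
  have hPc : Nat.Coprime (Nat.card P) P.index := by
    obtain ⟨k, hk⟩ := IsPGroup.iff_card.1 hPp
    rw [hk]
    exact Nat.Coprime.pow_left _ hPi.symm
  obtain ⟨Q, hQ⟩ := Subgroup.exists_right_complement'_of_coprime hPc
  have hPQ : P ⊔ Q = ⊤ := hQ.sup_eq_top
  have hPQ0 : P ⊓ Q = ⊥ := hQ.disjoint.eq_bot
  have hQcard : Nat.card Q = P.index := hQ.symm.index_eq_card.symm
  have hQcomm : ⁅Q, Q⁆ = ⊥ := by
    rw [eq_bot_iff, ← hPQ0]
    exact le_inf (le_trans (commutator_mono le_top le_top) hcomm) (commutator_le_self Q)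
  have hQab : ∀ a b : Q, a * b = b * a := by
    intro a b
    exact Subtype.ext (FStar.commutator_eq_bot_iff_forall.1 hQcomm a a.2 b b.2)
  have hQnil : Group.IsNilpotent Q := by
    have h4 : Subgroup.center Q = ⊤ := by
      rw [eq_top_iff]
      intro a _
      rw [Subgroup.mem_center_iff]
      exact fun b => hQab b a
    exact ⟨1, by rw [Subgroup.upperCentralSeries_one, h4]⟩
  have hQcyc : IsCyclic Q := by
    apply cyclic_of_squarefree _ hQnil
    rw [hQcard]
    exact squarefree_index_fitting h hcomm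
  obtain ⟨⟨x, hx⟩, hxg⟩ := hQcyc.exists_generator
  have hQx : ∀ q ∈ Q, ∃ n : ℤ, x ^ n = q := by
    intro q hq
    obtain ⟨n, hn⟩ := hxg ⟨q, hq⟩
    exact ⟨n, congrArg Subtype.val hn⟩
  have hcQ : ∀ g : H, g * x = x * g → ∀ q ∈ Q, g * q = q * g := by
    intro g hg q hq
    obtain ⟨n, rfl⟩ := hQx q hq
    exact (Commute.zpow_right hg n)
  have hrel : ∀ g : H, (centralizer ({g} : Set H)).relIndex P ∣ p := fun g => h.relIndex_dvd P hPp g
  -- Knoche
  have hK : Nat.card (commutator P) ∣ p := by
    apply knoche hPp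
    intro a
    have h1 : centralizer ({a} : Set P) = (centralizer ({(a : H)} : Set H)).subgroupOf P := by
      ext v
      rw [mem_subgroupOf, mem_centralizer_singleton_iff, mem_centralizer_singleton_iff, ← Subtype.coe_inj]
      rfl
    rw [h1]
    exact hrel a
  have hmapP : (commutator P).map P.subtype = ⁅P, P⁆ := by
    rw [_root_.commutator_def, Subgroup.map_commutator, ← MonoidHom.range_eq_map, Subgroup.range_subtype]
  have hK' : Nat.card ↥⁅P, P⁆ ∣ p := by
    rwa [← hmapP, ← Nat.card_congr (Subgroup.equivMapOfInjective _ _ P.subtype_injective).toEquiv]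
  have hPPc : ∀ g : H, ⁅P, P⁆ ≤ centralizer ({g} : Set H) := by
    intro g
    rw [← hmapP, Subgroup.map_le_iff_le_comap]
    exact commutator_le_of_index_dvd hPp (hrel g)
  set M := centralizer ({x} : Set H) ⊓ P with hM
  set W := ⁅P, Q⁆ with hW
  have hWP : W ≤ P := commutator_le_left P Q
  have hQP : Q ≤ normalizer (P : Set H) := le_normalizer_of_normal
  have hcop : (Nat.card Q).Coprime (Nat.card P) := by
    rw [hQcard]
    exact hPc.symm
  have hsolv : Group.IsSolvable Q ∨ Group.IsSolvable P := Or.inl inferInstance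
  have hMC : P ⊓ centralizer (Q : Set H) = M := by
    apply le_antisymm
    · rintro g ⟨hg1, hg2⟩
      exact mem_inf.2 ⟨mem_centralizer_singleton_iff.2 (mem_centralizer_iff.1 hg2 x hx).symm, hg1⟩
    · intro g hg
      refine mem_inf.2 ⟨(mem_inf.1 hg).2, mem_centralizer_iff.2 (fun q hq => ?_)⟩
      exact (hcQ g (mem_centralizer_singleton_iff.1 (mem_inf.1 hg).1) q hq).symm
  have hMQ : ⁅M, Q⁆ = ⊥ := by
    rw [FStar.commutator_eq_bot_iff_forall]
    intro a ha b hb
    exact hcQ a (mem_centralizer_singleton_iff.1 (mem_inf.1 ha).1) b hb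
  have hWM : ∀ w ∈ W, ∀ m ∈ M, w * m = m * w := by
    rw [← FStar.commutator_eq_bot_iff_forall]
    apply commutator_commutator_eq_bot_of_rotate
    · rw [commutator_comm Q M, hMQ, commutator_bot_left]
    · rw [FStar.commutator_eq_bot_iff_forall]
      intro a ha b hb
      have h1 : a ∈ ⁅P, P⁆ := commutator_mono inf_le_right le_rfl ha
      exact hcQ a (mem_centralizer_singleton_iff.1 (hPPc x h1)) b hb
  -- the index of `M` in `W`
  have hrW : M.relIndex W ∣ p := by
    have h1 : M.relIndex W ≤ M.relIndex P :=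
      relIndex_le_of_le_right hWP (by
        have := Subgroup.index_ne_zero_of_finite (H := M.subgroupOf P)
        exact this)
    have h2 : M.relIndex P ≤ p := by
      rw [hM, inf_relIndex_right]
      exact Nat.le_of_dvd hp.out.pos (hrel x)
    obtain ⟨k, hk⟩ := IsPGroup.iff_card.1 (hPp.to_le hWP)
    have h3 : M.relIndex W ∣ p ^ k := by
      rw [← hk]
      exact relIndex_dvd_card _ _
    obtain ⟨j, _, hj⟩ := (Nat.dvd_prime_pow hp.out).1 h3
    have h4 := h1.trans h2
    rw [hj] at h4 ⊢
    rcases Nat.lt_or_ge j 2 with hj2 | hj2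
    · exact (pow_dvd_pow p (by omega : j ≤ 1)).trans (by rw [pow_one])
    · exfalso
      have h5 : p ^ 2 ≤ p ^ j := Nat.pow_le_pow_right hp.out.pos hj2
      have h6 := hp.out.two_le
      nlinarith
  have hWab : ∀ a ∈ W, ∀ b ∈ W, a * b = b * a := by
    have h1 : M.subgroupOf W ≤ center W := by
      intro m hm
      rw [mem_center_iff]
      intro w
      exact Subtype.ext (hWM w w.2 m (mem_subgroupOf.1 hm))
    have h2 : (center W).index ∣ p := (index_dvd_of_le h1).trans hrW
    intro a ha b hb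
    exact congrArg Subtype.val (comm_of_center_index h2 ⟨a, ha⟩ ⟨b, hb⟩)
  have hWQn : Q ≤ normalizer (W : Set H) := normalizer_commutator_ge_right P Q
  have hWcc : ⁅W, Q⁆ = W := Cop.commutator_commutator_eq hQP hcop hsolv
  have hWab' : IsMulCommutative W := ⟨⟨fun a b => Subtype.ext (hWab a a.2 b b.2)⟩⟩
  have hWcop : (Nat.card Q).Coprime (Nat.card W) := Nat.Coprime.coprime_dvd_right (card_dvd_of_le hWP) hcop
  have hWM0 : M ⊓ W = ⊥ := by
    have h1 := (H91.abelian_decomp Q W hWQn hWcop).1
    rw [hWcc] at h1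
    rw [eq_bot_iff, ← h1]
    intro g hg
    have h2 := mem_inf.1 hg
    rw [← hMC] at h2
    exact mem_inf.2 ⟨mem_inf.2 ⟨h2.2, (mem_inf.1 h2.1).2⟩, h2.2⟩
  have hWcard : Nat.card W ∣ p := by
    have h1 := card_inf_mul_relIndex M W
    rw [hWM0, card_bot, one_mul] at h1
    rw [← h1]
    exact hrW
  have hPWM : W ⊔ M = P := by
    rw [← hMC]
    exact Cop.commutator_sup_centralizer hQP hcop hsolv
  by_cases hMab : ∀ a ∈ M, ∀ b ∈ M, a * b = b * a
  · -- `P` is abelian
    have hPab : ⁅P, P⁆ = ⊥ := by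
      have h1 : ∀ a ∈ W ⊔ M, ∀ b ∈ W ⊔ M, a * b = b * a := by
        have h2 : ∀ b, (b ∈ W ∨ b ∈ M) → W ⊔ M ≤ centralizer ({b} : Set H) := by
          intro b hb
          refine sup_le (fun a ha => mem_centralizer_singleton_iff.2 ?_)
            (fun a ha => mem_centralizer_singleton_iff.2 ?_)
          · rcases hb with hb | hb
            · exact hWab a ha b hb
            · exact hWM a ha b hb
          · rcases hb with hb | hb
            · exact (hWM b hb a ha).symm
            · exact hMab a ha b hb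
        intro a ha b hb
        have h3 : W ⊔ M ≤ centralizer ({a} : Set H) := by
          refine sup_le (fun c hc => ?_) (fun c hc => ?_)
          · exact mem_centralizer_singleton_iff.2 (mem_centralizer_singleton_iff.1 (h2 c (Or.inl hc) ha)).symm
          · exact mem_centralizer_singleton_iff.2 (mem_centralizer_singleton_iff.1 (h2 c (Or.inr hc) ha)).symm
        exact (mem_centralizer_singleton_iff.1 (h3 hb)).symm
      rw [FStar.commutator_eq_bot_iff_forall]
      rw [hPWM] at h1
      exact h1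
    have hWn : W.Normal := by
      rw [← normalizer_eq_top_iff, eq_top_iff, ← hPQ]
      exact sup_le (normalizer_commutator_ge_left P Q) hWQn
    refine dvd_trans (card_dvd_of_le ?_) hWcard
    apply commutator_le_of_gen hPQ
    · rw [hPab]
      exact bot_le
    · exact le_rfl
    · rw [hQcomm]
      exact bot_le
  · push Not at hMab
    obtain ⟨u, hu, m, hm, hum⟩ := hMab
    have hPx : P ≤ centralizer ({x} : Set H) := by
      by_contra hcon
      have hidx : (centralizer ({x} : Set H)).relIndex P = p := by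
        rcases (Nat.dvd_prime hp.out).1 (hrel x) with h1 | h1
        · exact absurd (relIndex_eq_one.1 h1) hcon
        · exact h1
      have hux : Commute u x := mem_centralizer_singleton_iff.1 (mem_inf.1 hu).1
      have hlt : centralizer ({u * x} : Set H) ⊓ P < M := by
        obtain ⟨k, hk0, hk1⟩ := CF.exists_exp (q := Nat.card Q) (m := Nat.card P) hcop
        have hxk : (u * x) ^ k = x := by
          have h1 : u ^ Nat.card P = 1 := by
            have := pow_card_eq_one' (x := (⟨u, (mem_inf.1 hu).2⟩ : P))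
            exact congrArg Subtype.val this
          have h2 : x ^ Nat.card Q = 1 := by
            have := pow_card_eq_one' (x := (⟨x, hx⟩ : Q))
            exact congrArg Subtype.val this
          rw [hux.mul_pow, CF.pow_eq_one_of_modEq hk0 h1, CF.pow_eq_self_of_modEq hk1 h2, one_mul]
        have h3 : ∀ g : H, Commute g (u * x) → Commute g x ∧ Commute g u := by
          intro g hg
          have h4 : Commute g x := by
            rw [← hxk]
            exact hg.pow_right k
          refine ⟨h4, ?_⟩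
          have h5 : u = (u * x) * x⁻¹ := by rw [mul_inv_cancel_right]
          rw [h5]
          exact hg.mul_right h4.inv_right
        refine lt_of_le_of_ne ?_ ?_
        · intro g hg
          have h4 := h3 g (mem_centralizer_singleton_iff.1 (mem_inf.1 hg).1)
          exact mem_inf.2 ⟨mem_centralizer_singleton_iff.2 h4.1, (mem_inf.1 hg).2⟩
        · intro h4
          rw [← h4] at hm
          have h5 := h3 m (mem_centralizer_singleton_iff.1 (mem_inf.1 hm).1)
          exact hum h5.2.symm
      have hc1 : Nat.card ↥(centralizer ({u * x} : Set H) ⊓ P) < Nat.card M := by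
        apply Nat.lt_of_not_le
        intro hle
        exact hlt.ne (Subgroup.eq_of_le_of_card_ge hlt.le hle)
      have hc2 : Nat.card M * p = Nat.card P := by
        rw [← hidx]
        exact card_inf_mul_relIndex _ _
      have hc3 := card_inf_mul_relIndex (centralizer ({u * x} : Set H)) P
      have hc4 : (centralizer ({u * x} : Set H)).relIndex P ≤ p :=
        Nat.le_of_dvd hp.out.pos (hrel _)
      have hc5 : Nat.card ↥(centralizer ({u * x} : Set H) ⊓ P) * (centralizer ({u * x} : Set H)).relIndex P <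
          Nat.card M * p :=
        lt_of_le_of_lt (Nat.mul_le_mul_left _ hc4) (Nat.mul_lt_mul_of_pos_right hc1 hp.out.pos)
      rw [hc3, hc2] at hc5
      exact lt_irrefl _ hc5
    have hPPn : (⁅P, P⁆).Normal := inferInstance
    refine dvd_trans (card_dvd_of_le ?_) hK'
    apply commutator_le_of_gen hPQ le_rfl
    · rw [FStar.commutator_eq_bot_iff_forall.2 (fun a ha b hb =>
        hcQ a (mem_centralizer_singleton_iff.1 (hPx ha)) b hb)]
      exact bot_le
    · rw [hQcomm]
      exact bot_le

/-- the order of the derived subgroup is square-free. -/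
theorem squarefree_card_commutator {G : Type u} [Group G] [Finite G] (h : Sq G) :
    Squarefree (Nat.card (commutator G)) := by
  rw [Nat.squarefree_iff_prime_squarefree]
  intro q hq hqq
  haveI : Fact q.Prime := ⟨hq⟩
  have hQ := h.quotient (pPrimeCore q G)
  have hcomm : commutator (G ⧸ pPrimeCore q G) ≤ fittingSubgroup (G ⧸ pPrimeCore q G) :=
    Solv.le_fitting inferInstance (Supersolvable.isNilpotent_commutator hQ.supersolvable)
  have h1 := card_commutator_core (p := q) hQ hcomm (Solv.pPrimeCore_quotient_pPrimeCore q)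
  have h2 : (commutator G).map (QuotientGroup.mk' (pPrimeCore q G)) = commutator (G ⧸ pPrimeCore q G) := by
    rw [_root_.commutator_def, _root_.commutator_def, Subgroup.map_commutator,
      Subgroup.map_top_of_surjective _ (QuotientGroup.mk'_surjective _)]
  have h3 := card_inf_mul_relIndex (pPrimeCore q G) (commutator G)
  have h4 : (pPrimeCore q G).relIndex (commutator G) = Nat.card (commutator (G ⧸ pPrimeCore q G)) := by
    rw [← h2, ← Subgroup.relIndex_ker, QuotientGroup.ker_mk']
  rw [← h3, h4] at hqq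
  have h5 : (Nat.card ↥(pPrimeCore q G ⊓ commutator G)).Coprime q :=
    Nat.Coprime.coprime_dvd_left (card_dvd_of_le inf_le_left) (Solv.pPrimeCore_card_coprime q)
  have h6 : q * q ∣ Nat.card (commutator (G ⧸ pPrimeCore q G)) :=
    (Nat.Coprime.mul_left h5.symm h5.symm).dvd_of_dvd_mul_left hqq
  have h7 := Nat.le_of_dvd hq.pos (h6.trans h1)
  have h8 := hq.two_le
  nlinarith

end Five

section Six

/-- a normal cyclic subgroup of square-free order of a group contained in a nilpotent normal subgroup is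
centralized by it. -/
theorem central_of_squarefree {G : Type*} [Group G] [Finite G] {D F : Subgroup G} [D.Normal]
    (hDF : D ≤ F) (hF : Group.IsNilpotent F) (hc : IsCyclic D) (hs : Squarefree (Nat.card D)) :
    ∀ d ∈ D, ∀ f ∈ F, d * f = f * d := by
  have key : D ⊓ centralizer (F : Set G) = D := by
    by_contra hne
    have hcard : Nat.card ↥(D ⊓ centralizer (F : Set G)) ≠ Nat.card D :=
      fun h => hne (Subgroup.eq_of_le_of_card_ge inf_le_left h.ge)
    obtain ⟨c, hcc⟩ := Subgroup.card_dvd_of_le (inf_le_left : D ⊓ centralizer (F : Set G) ≤ D)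
    have hc1 : c ≠ 1 := by
      rintro rfl
      rw [mul_one] at hcc
      exact hcard hcc.symm
    obtain ⟨q, hq, hqc⟩ := Nat.exists_prime_and_dvd hc1
    haveI : Fact q.Prime := ⟨hq⟩
    have hqD : q ∣ Nat.card D := by
      rw [hcc]
      exact dvd_mul_of_dvd_right hqc _
    obtain ⟨d, hd⟩ := exists_prime_orderOf_dvd_card' q hqD
    -- the subgroup generated by `d` is normal
    have hmem : ∀ g : G, g * (d : G) * g⁻¹ ∈ zpowers (d : G) := by
      intro g
      have h1 : g * (d : G) * g⁻¹ ∈ D := Normal.conj_mem inferInstance _ d.2 g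
      have h2 : orderOf (⟨_, h1⟩ : D) = q := by
        rw [Subgroup.orderOf_mk, FStar.orderOf_conj, Subgroup.orderOf_coe, hd]
      have h3 : (⟨_, h1⟩ : D) ∈ zpowers d := by
        apply Supersolvable.mem_zpowers_of_pow_eq_one d _ q hq.pos hd
        rw [← h2, pow_orderOf_eq_one]
      obtain ⟨n, hn⟩ := h3
      exact ⟨n, congrArg Subtype.val hn⟩
    have hN : ((zpowers (d : G)).subgroupOf F).Normal := by
      constructor
      rintro ⟨y, hy⟩ hyz g
      rw [mem_subgroupOf] at hyz ⊢
      obtain ⟨n, hn⟩ := hyz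
      change (g : G) * y * (g : G)⁻¹ ∈ zpowers (d : G)
      have h4 : y = (d : G) ^ n := hn.symm
      rw [h4, ← conj_zpow]
      exact Subgroup.zpow_mem _ (hmem g) n
    have hdF : (d : G) ∈ F := hDF d.2
    have hNb : (zpowers (d : G)).subgroupOf F ≠ ⊥ := by
      intro hb
      have h5 : (⟨d, hdF⟩ : F) ∈ (zpowers (d : G)).subgroupOf F := mem_subgroupOf.2 (mem_zpowers _)
      rw [hb, mem_bot] at h5
      have h6 : d = 1 := Subtype.ext (congrArg (fun z : F => (z : G)) h5)
      rw [h6, orderOf_one] at hd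
      exact hq.one_lt.ne hd
    have h7 := Solv.inf_center_ne_bot_of_nilpotent ((zpowers (d : G)).subgroupOf F) hNb
    have hcardN : Nat.card ↥((zpowers (d : G)).subgroupOf F) = q := by
      rw [Nat.card_congr (Subgroup.subgroupOfEquivOfLe (by rwa [zpowers_le] : zpowers (d : G) ≤ F)).toEquiv,
        Nat.card_zpowers, Subgroup.orderOf_coe, hd]
    have h8 : (zpowers (d : G)).subgroupOf F ⊓ center F = (zpowers (d : G)).subgroupOf F := by
      apply Subgroup.eq_of_le_of_card_ge inf_le_left
      have h9 := Subgroup.card_dvd_of_le (inf_le_left : (zpowers (d : G)).subgroupOf F ⊓ center F ≤ _)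
      rw [hcardN] at h9 ⊢
      rcases (Nat.dvd_prime hq).1 h9 with h10 | h10
      · exact absurd (Subgroup.card_eq_one.1 h10) h7
      · exact h10.ge
    have h11 : (d : G) ∈ D ⊓ centralizer (F : Set G) := by
      refine mem_inf.2 ⟨d.2, mem_centralizer_iff.2 (fun f hf => ?_)⟩
      have h12 : (⟨d, hdF⟩ : F) ∈ (zpowers (d : G)).subgroupOf F ⊓ center F := by
        rw [h8]
        exact mem_subgroupOf.2 (mem_zpowers _)
      exact congrArg Subtype.val (mem_center_iff.1 (mem_inf.1 h12).2 ⟨f, hf⟩)
    have h13 : q ∣ Nat.card ↥(D ⊓ centralizer (F : Set G)) := by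
      have := orderOf_dvd_natCard (⟨d, h11⟩ : ↥(D ⊓ centralizer (F : Set G)))
      rwa [Subgroup.orderOf_mk, Subgroup.orderOf_coe, hd] at this
    have h14 : q * q ∣ Nat.card D := by
      rw [hcc]
      exact Nat.mul_dvd_mul h13 hqc
    exact (Nat.squarefree_iff_prime_squarefree.1 hs) q hq h14
  intro d hd f hf
  rw [← key] at hd
  exact (mem_centralizer_iff.1 (mem_inf.1 hd).2 f hf).symm

theorem commutator_eq_bot_of_comm {D : Type*} [Group D] (h : ∀ a b : D, a * b = b * a) :
    commutator D = ⊥ := by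
  rw [eq_bot_iff, _root_.commutator_def, Subgroup.commutator_le]
  intro a _ b _
  rw [mem_bot, commutatorElement_eq_one_iff_mul_comm]
  exact h a b

/-- the structure of the groups with square-free class sizes. -/
theorem main {G : Type u} [Group G] [Finite G] (h : Sq G) :
    IsSupersolvable G ∧ (fittingSubgroup G).Normal ∧
    (∀ _h : (fittingSubgroup G).Normal, IsCyclic (G ⧸ fittingSubgroup G) ∧ Squarefree (fittingSubgroup G).index) ∧
    IsCyclic (commutator G) ∧ Squarefree (Nat.card (commutator G)) ∧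
    Subgroup.upperCentralSeries ↥(fittingSubgroup G) 2 = ⊤ ∧ commutator ↥(commutator G) = ⊥ := by
  have hss := h.supersolvable
  have hnil := Supersolvable.isNilpotent_commutator hss
  have hcomm : commutator G ≤ fittingSubgroup G := Solv.le_fitting inferInstance hnil
  have hsq := squarefree_card_commutator h
  have hcyc : IsCyclic (commutator G) := cyclic_of_squarefree hsq hnil
  refine ⟨hss, inferInstance, fun _ => ⟨cyclic_quotient_fitting h hcomm, squarefree_index_fitting h hcomm⟩,
    hcyc, hsq, ?_, ?_⟩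
  · have hcen := central_of_squarefree hcomm Solv.fitting_isNilpotent hcyc hsq
    rw [eq_top_iff]
    intro a _
    rw [show (2 : ℕ) = 1 + 1 from rfl, Subgroup.mem_upperCentralSeries_succ_iff]
    intro b
    rw [Subgroup.upperCentralSeries_one, mem_center_iff]
    intro c
    apply Subtype.ext
    have h1 : (a : G) * b * (a : G)⁻¹ * (b : G)⁻¹ ∈ commutator G :=
      commutator_mem_commutator (mem_top _) (mem_top _)
    exact (hcen _ h1 c c.2).symm
  · exact commutator_eq_bot_of_comm (fun a b => hcyc.isMulCommutative.is_comm.comm a b)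

end Six

end Cfsg.Agent.H23.CS
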