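import Mathlib

/-!
A `p`-group (`p` odd) acted on by a quaternion group of automorphisms: `|N : C_N(z)|` is a square of a power of `p`
(S3930, piece O1).
-/

set_option autoImplicit false

namespace Cfsg.Agent.H23.PyrO1

universe u

theorem ab_case {V : Type*} [AddCommGroup V] [Finite V] {p : ℕ} [Fact p.Prime] (hp2 : p ≠ 2) [Module (ZMod p) V]
    (i j : V →ₗ[ZMod p] V) (hij : ∀ v, i (i v) = j (j v)) (h4 : ∀ v, i (i (i (i v))) = v)
    (hji : ∀ v, i (j (i v)) = j v) :
    ∃ c, Nat.card V = Nat.card {v : V // i (i v) = v} * (p ^ c) ^ 2 := by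
  have hp : p.Prime := Fact.out
  have h20 : (2 : ZMod p) ≠ 0 := by
    intro h
    have h1 : ((2 : ℕ) : ZMod p) = 0 := by exact_mod_cast h
    rw [ZMod.natCast_eq_zero_iff] at h1
    exact hp2 ((Nat.prime_dvd_prime_iff_eq hp Nat.prime_two).1 h1)
  let z : V →ₗ[ZMod p] V := i ∘ₗ i
  have hz : ∀ v, z v = i (i v) := fun _ => rfl
  let W := LinearMap.ker (z + LinearMap.id)
  have hW : ∀ v, v ∈ W ↔ i (i v) = -v := by
    intro v
    rw [LinearMap.mem_ker, LinearMap.add_apply, LinearMap.id_apply, hz, add_eq_zero_iff_eq_neg]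
  let C := LinearMap.range (z + LinearMap.id)
  have hC : ∀ v, v ∈ C ↔ i (i v) = v := by
    intro v
    constructor
    · rintro ⟨w, rfl⟩
      rw [LinearMap.add_apply, LinearMap.id_apply, hz, map_add, map_add, h4, add_comm]
    · intro h
      refine ⟨(2 : ZMod p)⁻¹ • v, ?_⟩
      rw [LinearMap.add_apply, LinearMap.id_apply, hz, map_smul, map_smul, h, ← add_smul, ← two_mul,
        mul_inv_cancel₀ h20, one_smul]
  have hcard : Nat.card V = Nat.card C * Nat.card W := by
    rw [Module.natCard_eq_pow_finrank (K := ZMod p) (V := V), Module.natCard_eq_pow_finrank (K := ZMod p) (V := C),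
      Module.natCard_eq_pow_finrank (K := ZMod p) (V := W), ← pow_add, LinearMap.finrank_range_add_finrank_ker]
  have hcC : Nat.card C = Nat.card {v : V // i (i v) = v} :=
    Nat.card_congr (Equiv.subtypeEquivRight hC)
  have hiW : ∀ v ∈ W, i v ∈ W := by
    intro v hv
    rw [hW] at hv ⊢
    rw [hv, map_neg]
  have hjW : ∀ v ∈ W, j v ∈ W := by
    intro v hv
    rw [hW] at hv ⊢
    rw [hij, ← hij v, hv, map_neg]
  have hanti : ∀ v ∈ W, i (j v) = -(j (i v)) := by
    intro v hv
    have h1 : i (j (i (i v))) = j (i v) := hji (i v)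
    rw [(hW v).1 hv, map_neg, map_neg] at h1
    rw [← h1, neg_neg]
  let iW : W →ₗ[ZMod p] W := i.restrict hiW
  let jW : W →ₗ[ZMod p] W := j.restrict hjW
  have hcomp : iW ∘ₗ jW = (-1 : ZMod p) • (jW ∘ₗ iW) := by
    ext v
    rw [LinearMap.smul_apply, neg_one_smul]
    exact hanti v v.2
  have hdi : LinearMap.det iW * LinearMap.det iW ≠ 0 := by
    have h1 : iW ∘ₗ iW = (-1 : ZMod p) • LinearMap.id := by
      ext v
      rw [LinearMap.smul_apply, neg_one_smul]
      exact (hW v).1 v.2
    rw [← LinearMap.det_comp, h1, LinearMap.det_smul, LinearMap.det_id, mul_one]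
    exact pow_ne_zero _ (neg_ne_zero.2 one_ne_zero)
  have hdj : LinearMap.det jW * LinearMap.det jW ≠ 0 := by
    have h1 : jW ∘ₗ jW = (-1 : ZMod p) • LinearMap.id := by
      ext v
      rw [LinearMap.smul_apply, neg_one_smul]
      have := (hW v).1 v.2
      rw [hij] at this
      exact this
    rw [← LinearMap.det_comp, h1, LinearMap.det_smul, LinearMap.det_id, mul_one]
    exact pow_ne_zero _ (neg_ne_zero.2 one_ne_zero)
  have hev : Even (Module.finrank (ZMod p) W) := by
    have h1 := congrArg LinearMap.det hcomp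
    rw [LinearMap.det_smul, LinearMap.det_comp, LinearMap.det_comp, mul_comm (LinearMap.det jW)] at h1
    have h2 : LinearMap.det iW * LinearMap.det jW ≠ 0 :=
      mul_ne_zero (left_ne_zero_of_mul hdi) (left_ne_zero_of_mul hdj)
    have h3 : (-1 : ZMod p) ^ Module.finrank (ZMod p) W = 1 := by
      have h4 : 1 * (LinearMap.det iW * LinearMap.det jW) =
          (-1 : ZMod p) ^ Module.finrank (ZMod p) W * (LinearMap.det iW * LinearMap.det jW) := by
        rw [one_mul]; exact h1
      exact (mul_right_cancel₀ h2 h4).symm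
    rwa [neg_one_pow_eq_one_iff_even] at h3
    intro h
    apply h20
    linear_combination -h
  obtain ⟨c, hc⟩ := hev
  refine ⟨c, ?_⟩
  rw [hcard, hcC, Module.natCard_eq_pow_finrank (K := ZMod p) (V := W), hc, ← two_mul, mul_comm 2, pow_mul,
    Nat.card_zmod]

/-- induced automorphism of a quotient by a characteristic subgroup -/
def qAut {K : Type*} [Group K] (C : Subgroup K) [hC : C.Characteristic] [C.Normal] : MulAut K →* MulAut (K ⧸ C) where
  toFun α := QuotientGroup.congr C C α (Subgroup.characteristic_iff_map_eq.mp hC α)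
  map_one' := by ext ⟨x⟩; rfl
  map_mul' a b := by ext ⟨x⟩; rfl

theorem qAut_mk {K : Type*} [Group K] (C : Subgroup K) [hC : C.Characteristic] [C.Normal] (α : MulAut K) (x : K) :
    qAut C α (QuotientGroup.mk x) = QuotientGroup.mk (α x) := rfl

theorem card_fix {N : Type*} [Group N] [Finite N] (hodd : Odd (Nat.card N)) (z : MulAut N) (hz : ∀ x, z (z x) = x)
    (M : Subgroup N) [hM : M.Characteristic] [M.Normal] :
    Nat.card {x : N // z x = x} = Nat.card {m : M // z (m : N) = m} * Nat.card {y : N ⧸ M // qAut M z y = y} := by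
  let F : Subgroup N :=
    { carrier := {x | z x = x}
      one_mem' := map_one z
      mul_mem' := by
        intro a b ha hb
        change z (a * b) = a * b
        rw [map_mul, ha, hb]
      inv_mem' := by
        intro a ha
        change z a⁻¹ = a⁻¹
        rw [map_inv, ha] }
  have hF : ∀ x, x ∈ F ↔ z x = x := fun _ => Iff.rfl
  let f : F →* N ⧸ M := (QuotientGroup.mk' M).comp F.subtype
  have h1 : Nat.card F = Nat.card f.ker * Nat.card f.range := by
    rw [← Subgroup.index_ker, Subgroup.card_mul_index]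
  have h2 : Nat.card f.ker = Nat.card {m : M // z (m : N) = m} := by
    refine Nat.card_congr
      { toFun := fun x => ⟨⟨x.1.1, ?_⟩, x.1.2⟩
        invFun := fun m => ⟨⟨m.1.1, m.2⟩, ?_⟩
        left_inv := fun x => rfl
        right_inv := fun m => rfl }
    · have := x.2
      rw [MonoidHom.mem_ker] at this
      exact (QuotientGroup.eq_one_iff _).1 this
    · rw [MonoidHom.mem_ker]
      exact (QuotientGroup.eq_one_iff _).2 m.1.2
  have h3 : Nat.card f.range = Nat.card {y : N ⧸ M // qAut M z y = y} := by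
    refine Nat.card_congr (Equiv.subtypeEquivRight ?_)
    intro y
    constructor
    · rintro ⟨x, rfl⟩
      change qAut M z (QuotientGroup.mk (x : N)) = QuotientGroup.mk (x : N)
      rw [qAut_mk, x.2]
    · intro hy
      obtain ⟨x, rfl⟩ := QuotientGroup.mk_surjective y
      rw [qAut_mk] at hy
      have hm : x⁻¹ * z x ∈ M := by
        rw [← QuotientGroup.eq]; exact hy.symm
      obtain ⟨m, hmd⟩ : ∃ m, m = x⁻¹ * z x := ⟨_, rfl⟩
      rw [← hmd] at hm
      have hzm : z m = m⁻¹ := by
        rw [hmd, map_mul, map_inv, hz, mul_inv_rev, inv_inv]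
      have hom : Odd (orderOf m) := hodd.of_dvd_nat (orderOf_dvd_natCard m)
      obtain ⟨n, hnd⟩ : ∃ n, n = m ^ ((orderOf m + 1) / 2) := ⟨_, rfl⟩
      have hnn : n * n = m := by
        obtain ⟨k, hk⟩ := hom
        rw [hnd, ← pow_add]
        have : (orderOf m + 1) / 2 + (orderOf m + 1) / 2 = orderOf m + 1 := by omega
        rw [this, pow_succ, pow_orderOf_eq_one, one_mul]
      have hzn : z n = n⁻¹ := by
        rw [hnd, map_pow, hzm, inv_pow]
      have hxn : z (x * n) = x * n := by
        have hzx : z x = x * m := by rw [hmd, mul_inv_cancel_left]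
        rw [map_mul, hzn, hzx, ← hnn]; group
      refine ⟨⟨x * n, hxn⟩, ?_⟩
      change (QuotientGroup.mk (x * n) : N ⧸ M) = QuotientGroup.mk x
      rw [eq_comm, QuotientGroup.eq, inv_mul_cancel_left, hnd]
      exact M.pow_mem hm _
  change Nat.card F = _
  rw [h1, h2, h3]

/-- central elements of order dividing `p` -/
def omZ (N : Type*) [Group N] (p : ℕ) : Subgroup N where
  carrier := {x | x ∈ Subgroup.center N ∧ x ^ p = 1}
  one_mem' := ⟨one_mem _, one_pow _⟩
  mul_mem' := by
    rintro a b ⟨ha, ha'⟩ ⟨hb, hb'⟩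
    refine ⟨mul_mem ha hb, ?_⟩
    have : Commute a b := (Subgroup.mem_center_iff.1 hb) a
    rw [this.mul_pow, ha', hb', one_mul]
  inv_mem' := by
    rintro a ⟨ha, ha'⟩
    exact ⟨inv_mem ha, by rw [inv_pow, ha', inv_one]⟩

theorem mem_omZ {N : Type*} [Group N] {p : ℕ} {x : N} : x ∈ omZ N p ↔ x ∈ Subgroup.center N ∧ x ^ p = 1 := Iff.rfl

theorem omZ_map {N : Type*} [Group N] {p : ℕ} (φ : MulAut N) {x : N} (hx : x ∈ omZ N p) : φ x ∈ omZ N p := by
  rw [mem_omZ] at hx ⊢
  refine ⟨?_, by rw [← map_pow, hx.2, map_one]⟩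
  rw [Subgroup.mem_center_iff]
  intro g
  have h1 := (Subgroup.mem_center_iff.1 hx.1) (φ⁻¹ g)
  have h2 := congrArg φ h1
  rw [map_mul, map_mul, MulAut.apply_inv_self] at h2
  exact h2

instance omZ_char {N : Type*} [Group N] {p : ℕ} : (omZ N p).Characteristic := by
  rw [Subgroup.characteristic_iff_map_le]
  rintro φ _ ⟨x, hx, rfl⟩
  exact omZ_map φ hx

/-- restriction to `omZ` -/
def resO {N : Type*} [Group N] (p : ℕ) (φ : MulAut N) : omZ N p →* omZ N p where
  toFun x := ⟨φ x, omZ_map φ x.2⟩
  map_one' := Subtype.ext (map_one φ)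
  map_mul' x y := Subtype.ext (map_mul φ _ _)

theorem coe_resO {N : Type*} [Group N] (p : ℕ) (φ : MulAut N) (x : omZ N p) : ((resO p φ x : omZ N p) : N) = φ x := rfl

theorem grp_case {M : Type*} [CommGroup M] [Finite M] {p : ℕ} (hp : p.Prime) (hp2 : p ≠ 2) (hM : ∀ x : M, x ^ p = 1)
    (i j : M →* M) (hij : ∀ x, i (i x) = j (j x)) (h4 : ∀ x, i (i (i (i x))) = x) (hji : ∀ x, i (j (i x)) = j x) :
    ∃ c, Nat.card M = Nat.card {x : M // i (i x) = x} * (p ^ c) ^ 2 := by
  have : Fact p.Prime := ⟨hp⟩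
  letI mod : Module (ZMod p) (Additive M) := AddCommGroup.zmodModule (fun v => hM (Additive.toMul v))
  exact ab_case (V := Additive M) hp2 (AddMonoidHom.toZModLinearMap p (MonoidHom.toAdditive i))
    (AddMonoidHom.toZModLinearMap p (MonoidHom.toAdditive j)) (fun v => hij (Additive.toMul v))
    (fun v => h4 (Additive.toMul v)) (fun v => hji (Additive.toMul v))

theorem omZ_case {N : Type*} [Group N] [Finite N] {p : ℕ} (hp : p.Prime) (hp2 : p ≠ 2) (i j : MulAut N)
    (hij : i * i = j * j) (h4 : (i * i) * (i * i) = 1) (hji : j * i * j⁻¹ = i⁻¹) :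
    ∃ c, Nat.card (omZ N p) = Nat.card {m : omZ N p // (i * i) (m : N) = m} * (p ^ c) ^ 2 := by
  letI inst : CommGroup (omZ N p) :=
    { (inferInstance : Group (omZ N p)) with
      mul_comm := fun a b => Subtype.ext ((Subgroup.mem_center_iff.1 b.2.1) a) }
  have h5 : i * j * i = j := by
    have h6 : j * i = i⁻¹ * j := by rw [← hji, inv_mul_cancel_right]
    rw [mul_assoc, h6, mul_inv_cancel_left]
  obtain ⟨c, hc⟩ := grp_case (M := omZ N p) hp hp2 (fun x => Subtype.ext x.2.2) (resO p i) (resO p j)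
    (fun x => Subtype.ext (DFunLike.congr_fun hij (x : N)))
    (fun x => Subtype.ext (DFunLike.congr_fun h4 (x : N)))
    (fun x => Subtype.ext (DFunLike.congr_fun h5 (x : N)))
  refine ⟨c, hc.trans ?_⟩
  congr 1
  exact Nat.card_congr (Equiv.subtypeEquivRight (fun x => ⟨fun h => congrArg Subtype.val h, fun h => Subtype.ext h⟩))

theorem q8_aux (n : ℕ) : ∀ (N : Type u) [Group N] [Finite N] {p : ℕ} (_ : p.Prime) (_ : p ≠ 2) (_ : IsPGroup p N)
    (i j : MulAut N) (_ : i * i = j * j) (_ : (i * i) * (i * i) = 1) (_ : j * i * j⁻¹ = i⁻¹), Nat.card N = n →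
    ∃ c, Nat.card N = Nat.card {x : N // (i * i) x = x} * (p ^ c) ^ 2 := by
  induction n using Nat.strong_induction_on with
  | _ n ih =>
    intro N _ _ p hp hp2 hN i j hij h4 hji hn
    have : Fact p.Prime := ⟨hp⟩
    rcases subsingleton_or_nontrivial N with hs | hs
    · refine ⟨0, ?_⟩
      rw [pow_zero, one_pow, mul_one]
      exact (Nat.card_congr (Equiv.subtypeUnivEquiv (fun x => Subsingleton.elim _ _))).symm
    · obtain ⟨c2, hc2⟩ := omZ_case hp hp2 i j hij h4 hji
      have hO : 1 < Nat.card (omZ N p) := by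
        have := hN.center_nontrivial
        have h1 : p ∣ Nat.card (Subgroup.center N) := by
          obtain ⟨k, hk⟩ := (IsPGroup.iff_card.1 (hN.to_subgroup (Subgroup.center N)))
          rw [hk]
          refine dvd_pow_self p ?_
          rintro rfl
          rw [pow_zero] at hk
          have := Finite.one_lt_card (α := Subgroup.center N)
          omega
        obtain ⟨x, hx⟩ := exists_prime_orderOf_dvd_card' p h1
        have hx1 : (x : N) ∈ omZ N p := ⟨x.2, by
          have := pow_orderOf_eq_one x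
          rw [hx] at this
          exact congrArg Subtype.val this⟩
        have : Nontrivial (omZ N p) := ⟨⟨⟨x, hx1⟩, 1, fun h => by
          have h2 : x = 1 := Subtype.ext (show (x : N) = 1 from congrArg (fun y : omZ N p => (y : N)) h)
          rw [h2, orderOf_one] at hx
          exact hp.one_lt.ne hx⟩⟩
        exact Finite.one_lt_card
      have hcard := Subgroup.card_eq_card_quotient_mul_card_subgroup (omZ N p)
      have hlt : Nat.card (N ⧸ omZ N p) < n := by
        rw [← hn, hcard]
        exact lt_mul_of_one_lt_right Nat.card_pos hO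
      obtain ⟨c1, hc1⟩ := ih _ hlt (N ⧸ omZ N p) hp hp2 (hN.to_quotient _) (qAut (omZ N p) i) (qAut (omZ N p) j)
        (by rw [← map_mul, hij, map_mul]) (by rw [← map_mul, ← map_mul, h4, map_one])
        (by rw [← map_inv, ← map_mul, ← map_mul, hji, map_inv]) rfl
      have hodd : Odd (Nat.card N) := by
        obtain ⟨k, hk⟩ := IsPGroup.iff_card.1 hN
        rw [hk]
        exact (hp.odd_of_ne_two hp2).pow
      have hfix := card_fix hodd (i * i) (fun x => DFunLike.congr_fun h4 x) (omZ N p)
      rw [← map_mul] at hc1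
      refine ⟨c1 + c2, ?_⟩
      rw [hcard, hc1, hc2, hfix]
      ring

/-- [O1] -/
theorem q8_square {N : Type u} [Group N] [Finite N] {p : ℕ} (hp : p.Prime) (hp2 : p ≠ 2) (hN : IsPGroup p N)
    (i j : MulAut N) (hij : i * i = j * j) (h4 : (i * i) * (i * i) = 1) (hji : j * i * j⁻¹ = i⁻¹) :
    ∃ c, Nat.card N = Nat.card {x : N // (i * i) x = x} * (p ^ c) ^ 2 :=
  q8_aux _ N hp hp2 hN i j hij h4 hji rfl

end Cfsg.Agent.H23.PyrO1
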