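import Mathlib
import Cfsg.Agent.BG.Core
import Cfsg.Agent.S0206
import Cfsg.Prelude.Def_Transfer

/-!
# The Thompson dihedral lemma (owner: helper23)
-/

set_option autoImplicit false

namespace Cfsg.Agent.H23.TD

open Subgroup
open scoped commutatorElement

/-- common eigenvectors of commuting involutory endomorphisms of a commutative group of odd order. -/
theorem eigen_abs {Q : Type*} [Group Q] [Finite Q] (hcomm : ∀ x y : Q, x * y = y * x)
    {ι : Type*} [DecidableEq ι] (σ : ι → Q →* Q) (h2 : ∀ i x, σ i (σ i x) = x)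
    (hc : ∀ i j x, σ i (σ j x) = σ j (σ i x)) {x₀ : Q} (hx₀ : x₀ ≠ 1) (s : Finset ι) :
    ∃ x : Q, x ≠ 1 ∧ ∀ i ∈ s, σ i x = x ∨ σ i x = x⁻¹ := by
  induction s using Finset.induction_on with
  | empty => exact ⟨x₀, hx₀, fun i hi => absurd hi (Finset.notMem_empty i)⟩
  | insert a s _ ih =>
    obtain ⟨x, hx, hs⟩ := ih
    by_cases hy : σ a x * x = 1
    · -- then `σ a x = x⁻¹`
      refine ⟨x, hx, ?_⟩
      intro i hi
      rw [Finset.mem_insert] at hi
      rcases hi with rfl | hi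
      · exact Or.inr (eq_inv_of_mul_eq_one_left hy)
      · exact hs i hi
    · refine ⟨σ a x * x, hy, ?_⟩
      intro i hi
      rw [Finset.mem_insert] at hi
      rcases hi with rfl | hi
      · left
        rw [map_mul, h2, hcomm]
      · rw [map_mul, hc i a x]
        rcases hs i hi with h | h
        · left; rw [h]
        · right; rw [h, map_inv, ← mul_inv_rev, hcomm]

variable {G : Type*} [Group G]

/-- common eigenvectors modulo `N`. -/
theorem eigen_mod [Finite G] {Z N A : Subgroup G} (hne : ¬ Z ≤ N)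
    (hcomm : ∀ x ∈ Z, ∀ y ∈ Z, x * y * x⁻¹ * y⁻¹ ∈ N)
    (hAZ : ∀ a ∈ A, ∀ x ∈ Z, a * x * a⁻¹ ∈ Z) (hAN : ∀ a ∈ A, ∀ x ∈ N, a * x * a⁻¹ ∈ N)
    (hA2 : ∀ a ∈ A, a * a = 1) (hAc : ∀ a ∈ A, ∀ b ∈ A, a * b = b * a) :
    ∃ x ∈ Z, x ∉ N ∧ ∀ a ∈ A, a * x * a⁻¹ * x⁻¹ ∈ N ∨ a * x * a⁻¹ * x ∈ N := by
  classical
  set N' : Subgroup ↥Z := N.subgroupOf Z with hN'
  have : N'.Normal := by
    constructor
    intro n hn z
    rw [hN', mem_subgroupOf] at hn ⊢
    have h1 := N.mul_mem (hcomm z z.2 n n.2) hn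
    have e : (z : G) * n * (z : G)⁻¹ * (n : G)⁻¹ * n = ((z * n * z⁻¹ : ↥Z) : G) := by push_cast; group
    rwa [e] at h1
  let f : ↥A → (↥Z →* ↥Z) := fun a =>
    { toFun := fun z => ⟨a * z * (a : G)⁻¹, hAZ a a.2 z z.2⟩
      map_one' := by apply Subtype.ext; simp
      map_mul' := fun x y => by apply Subtype.ext; push_cast; group }
  have hf : ∀ a, N' ≤ N'.comap (f a) := by
    intro a x hx
    rw [mem_comap, hN', mem_subgroupOf]
    exact hAN a a.2 x hx
  let σ : ↥A → ((↥Z ⧸ N') →* (↥Z ⧸ N')) := fun a => QuotientGroup.map N' N' (f a) (hf a)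
  have hinv : ∀ a : ↥A, (a : G)⁻¹ = a := fun a => (eq_inv_of_mul_eq_one_left (hA2 a a.2)).symm
  obtain ⟨z₀, hz₀, hz₀'⟩ := Set.not_subset.1 hne
  have hx₀ : ((⟨z₀, hz₀⟩ : ↥Z) : ↥Z ⧸ N') ≠ 1 := by
    intro h
    rw [QuotientGroup.eq_one_iff, hN', mem_subgroupOf] at h
    exact hz₀' h
  have hq : ∀ x y : ↥Z ⧸ N', x * y = y * x := by
    intro x y
    induction x using QuotientGroup.induction_on with
    | H x =>
    induction y using QuotientGroup.induction_on with
    | H y =>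
    rw [← QuotientGroup.mk_mul, ← QuotientGroup.mk_mul, QuotientGroup.eq_iff_div_mem, hN', mem_subgroupOf]
    have := hcomm x x.2 y y.2
    have e : (x : G) * y * (x : G)⁻¹ * (y : G)⁻¹ = ((x * y / (y * x) : ↥Z) : G) := by
      push_cast; rw [div_eq_mul_inv, mul_inv_rev]; group
    rwa [e] at this
  have := Fintype.ofFinite ↥A
  obtain ⟨x, hx, hs⟩ := eigen_abs hq σ (by
      intro a x
      induction x using QuotientGroup.induction_on with
      | H x =>
      change ((f a (f a x) : ↥Z) : ↥Z ⧸ N') = (x : ↥Z ⧸ N')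
      congr 1
      apply Subtype.ext
      change (a : G) * ((a : G) * x * (a : G)⁻¹) * (a : G)⁻¹ = x
      rw [hinv a]
      have h2 := hA2 a a.2
      calc (a : G) * ((a : G) * x * a) * a = (a * a) * x * (a * a) := by group
        _ = x := by rw [h2]; group) (by
      intro a b x
      induction x using QuotientGroup.induction_on with
      | H x =>
      change ((f a (f b x) : ↥Z) : ↥Z ⧸ N') = ((f b (f a x) : ↥Z) : ↥Z ⧸ N')
      congr 1
      apply Subtype.ext
      change (a : G) * ((b : G) * x * (b : G)⁻¹) * (a : G)⁻¹ = (b : G) * ((a : G) * x * (a : G)⁻¹) * (b : G)⁻¹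
      have h2 := hAc a a.2 b b.2
      calc (a : G) * ((b : G) * x * (b : G)⁻¹) * (a : G)⁻¹ = (a * b) * x * ((a : G) * b)⁻¹ := by group
        _ = (b * a) * x * ((b : G) * a)⁻¹ := by rw [h2]
        _ = _ := by group) hx₀ Finset.univ
  induction x using QuotientGroup.induction_on with
  | H z =>
  refine ⟨z, z.2, ?_, ?_⟩
  · intro h
    apply hx
    rw [QuotientGroup.eq_one_iff, hN', mem_subgroupOf]
    exact h
  · intro a ha
    rcases hs ⟨a, ha⟩ (Finset.mem_univ _) with h | h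
    · left
      change ((f ⟨a, ha⟩ z : ↥Z) : ↥Z ⧸ N') = (z : ↥Z ⧸ N') at h
      rw [QuotientGroup.eq_iff_div_mem, hN', mem_subgroupOf] at h
      have e : ((f ⟨a, ha⟩ z / z : ↥Z) : G) = a * z * a⁻¹ * (z : G)⁻¹ := by
        change (a * z * a⁻¹) / (z : G) = _
        rw [div_eq_mul_inv]
      rwa [e] at h
    · right
      change ((f ⟨a, ha⟩ z : ↥Z) : ↥Z ⧸ N') = ((z : ↥Z ⧸ N'))⁻¹ at h
      rw [← QuotientGroup.mk_inv, QuotientGroup.eq_iff_div_mem, hN', mem_subgroupOf] at h
      have e : ((f ⟨a, ha⟩ z / z⁻¹ : ↥Z) : G) = a * z * a⁻¹ * (z : G) := by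
        change (a * z * a⁻¹) / ((z : G)⁻¹) = _
        rw [div_inv_eq_mul]
      rwa [e] at h

theorem sq_eq_one {M : Subgroup G} [Finite G] (hM : Odd (Nat.card M)) {x : G} (hx : x ∈ M) (h : x * x = 1) : x = 1 := by
  have h1 : orderOf x ∣ 2 := orderOf_dvd_of_pow_eq_one (by rw [pow_two, h])
  have h3 : Odd (orderOf x) := Odd.of_dvd_nat hM (by
    have := orderOf_dvd_natCard (⟨x, hx⟩ : M)
    rwa [Subgroup.orderOf_mk] at this)
  rcases (Nat.dvd_prime Nat.prime_two).1 h1 with h | h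
  · exact orderOf_eq_one_iff.1 h
  · rw [h] at h3; exact absurd h3 (by decide)

/-- the abelian case. -/
theorem abelian_part [Finite G] {M A : Subgroup G} (hMc : ∀ x ∈ M, ∀ y ∈ M, x * y = y * x)
    (hModd : Odd (Nat.card M)) (hAM : ∀ a ∈ A, ∀ x ∈ M, a * x * a⁻¹ ∈ M)
    (hA2 : ∀ a ∈ A, a * a = 1) (hAc : ∀ a ∈ A, ∀ b ∈ A, a * b = b * a)
    (hfaith : ∀ a ∈ A, (∀ x ∈ M, a * x = x * a) → a = 1) :
    ∀ (n : ℕ) (B : Subgroup G), B ≤ A → Nat.card B ≤ n → ∃ (k : ℕ) (b y : Fin k → G), Nat.card B = 2 ^ k ∧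
      (∀ i, b i ∈ B) ∧ closure (Set.range b) = B ∧ (∀ i, y i ∈ M ∧ y i ≠ 1) ∧
      (∀ i, b i * y i * (b i)⁻¹ = (y i)⁻¹) ∧ (∀ i j, i ≠ j → b j * y i = y i * b j) ∧
      (∀ i, ∀ a ∈ A, a * y i * a⁻¹ = y i ∨ a * y i * a⁻¹ = (y i)⁻¹) := by
  classical
  intro n
  induction n with
  | zero =>
    intro B _ h
    have : 0 < Nat.card B := Nat.card_pos
    omega
  | succ n ih =>
    intro B hBA hB
    by_cases hb : B = ⊥
    · refine ⟨0, Fin.elim0, Fin.elim0, ?_, fun i => i.elim0, ?_, fun i => i.elim0, fun i => i.elim0,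
        fun i => i.elim0, fun i => i.elim0⟩
      · rw [hb]; simp
      · rw [hb, Set.range_eq_empty, Subgroup.closure_empty]
    obtain ⟨⟨a, haB⟩, ha1⟩ := ne_bot_iff_exists_ne_one.1 hb
    have ha1' : a ≠ 1 := fun h => ha1 (Subtype.ext h)
    have haA := hBA haB
    have hai : a⁻¹ = a := (eq_inv_of_mul_eq_one_left (hA2 a haA)).symm
    obtain ⟨x, hx, hxa⟩ : ∃ x ∈ M, a * x ≠ x * a := by
      by_contra hcon
      push Not at hcon
      exact ha1' (hfaith a haA hcon)
    -- the subgroup of the elements inverted by `a`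
    let Z : Subgroup G :=
      { carrier := {z | z ∈ M ∧ a * z * a⁻¹ = z⁻¹}
        mul_mem' := by
          rintro z w ⟨hz, hz'⟩ ⟨hw, hw'⟩
          refine ⟨M.mul_mem hz hw, ?_⟩
          calc a * (z * w) * a⁻¹ = (a * z * a⁻¹) * (a * w * a⁻¹) := by group
            _ = z⁻¹ * w⁻¹ := by rw [hz', hw']
            _ = (w * z)⁻¹ := by rw [mul_inv_rev]
            _ = (z * w)⁻¹ := by rw [hMc w hw z hz]
        one_mem' := ⟨M.one_mem, by simp⟩
        inv_mem' := by
          rintro z ⟨hz, hz'⟩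
          refine ⟨M.inv_mem hz, ?_⟩
          calc a * z⁻¹ * a⁻¹ = (a * z * a⁻¹)⁻¹ := by group
            _ = z⁻¹⁻¹ := by rw [hz'] }
    have hZm : ∀ z, z ∈ Z ↔ z ∈ M ∧ a * z * a⁻¹ = z⁻¹ := fun z => Iff.rfl
    have hzz : a * x * a⁻¹ * x⁻¹ ∈ Z := by
      rw [hZm]
      refine ⟨M.mul_mem (hAM a haA x hx) (M.inv_mem hx), ?_⟩
      have h1 := hAM a haA x hx
      have e : a * (a * x * a⁻¹ * x⁻¹) * a⁻¹ = (a * a) * x * (a * a)⁻¹ * (a * x * a⁻¹)⁻¹ := by group
      rw [e, hA2 a haA, one_mul, inv_one, mul_one]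
      group
    have hne : ¬ Z ≤ (⊥ : Subgroup G) := by
      intro h
      have h1 := h hzz
      rw [mem_bot, mul_inv_eq_one, mul_inv_eq_iff_eq_mul] at h1
      exact hxa h1
    obtain ⟨y, hyZ, hy1, hye⟩ := eigen_mod (Z := Z) (N := ⊥) (A := A) hne
      (by
        intro z hz w hw
        rw [mem_bot, hMc z hz.1 w hw.1]
        group)
      (by
        intro c hc z hz
        rw [hZm] at hz ⊢
        refine ⟨hAM c hc z hz.1, ?_⟩
        have h2 := hAc a haA c hc
        calc a * (c * z * c⁻¹) * a⁻¹ = (a * c) * z * (a * c)⁻¹ := by group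
          _ = (c * a) * z * (c * a)⁻¹ := by rw [h2]
          _ = c * (a * z * a⁻¹) * c⁻¹ := by group
          _ = c * z⁻¹ * c⁻¹ := by rw [hz.2]
          _ = (c * z * c⁻¹)⁻¹ := by group)
      (by
        intro c _ z hz
        rw [mem_bot] at hz ⊢
        rw [hz]; group) hA2 hAc
    obtain ⟨hyM, hya⟩ := hyZ
    rw [mem_bot] at hy1
    have hye' : ∀ c ∈ A, c * y * c⁻¹ = y ∨ c * y * c⁻¹ = y⁻¹ := by
      intro c hc
      rcases hye c hc with h | h
      · rw [mem_bot, mul_inv_eq_one] at h; exact Or.inl h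
      · rw [mem_bot] at h; exact Or.inr (eq_inv_of_mul_eq_one_left h)
    have hyy : y⁻¹ ≠ y := by
      intro h
      apply hy1
      apply sq_eq_one hModd hyM
      nth_rewrite 1 [← h]
      exact inv_mul_cancel y
    -- the kernel
    set B' : Subgroup G := B ⊓ centralizer ({y} : Set G) with hB'
    have hB'm : ∀ c, c ∈ B' ↔ c ∈ B ∧ c * y = y * c := by
      intro c
      rw [hB', mem_inf, mem_centralizer_iff]
      constructor
      · rintro ⟨h1, h2⟩
        exact ⟨h1, (h2 y rfl).symm⟩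
      · rintro ⟨h1, h2⟩
        refine ⟨h1, ?_⟩
        rintro _ rfl
        exact h2.symm
    have haB' : a ∉ B' := by
      intro h
      rw [hB'm] at h
      apply hyy
      rw [← hya, h.2, mul_inv_cancel_right]
    have hcos : ∀ c ∈ B, c ∉ B' → c * a⁻¹ ∈ B' := by
      intro c hc hc'
      rw [hB'm]
      refine ⟨B.mul_mem hc (B.inv_mem haB), ?_⟩
      have h1 : c * y * c⁻¹ = y⁻¹ := by
        rcases hye' c (hBA hc) with h | h
        · exfalso
          apply hc'
          rw [hB'm]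
          exact ⟨hc, mul_inv_eq_iff_eq_mul.1 h⟩
        · exact h
      have h2 : a⁻¹ * y * a = y⁻¹ := by
        have := hya
        rw [hai] at this ⊢
        exact this
      have h3 : (c * a⁻¹) * y * (c * a⁻¹)⁻¹ = y := by
        calc (c * a⁻¹) * y * (c * a⁻¹)⁻¹ = c * (a⁻¹ * y * a) * c⁻¹ := by group
          _ = c * y⁻¹ * c⁻¹ := by rw [h2]
          _ = (c * y * c⁻¹)⁻¹ := by group
          _ = y := by rw [h1, inv_inv]
      exact mul_inv_eq_iff_eq_mul.1 h3
    have hB'le : B' ≤ B := inf_le_left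
    have hidx : (B'.subgroupOf B).index = 2 := by
      rw [index_eq_two_iff]
      refine ⟨⟨a, haB⟩⁻¹, ?_⟩
      intro c
      by_cases hc : (c : G) ∈ B'
      · right
        refine ⟨hc, ?_⟩
        intro h
        apply haB'
        rw [mem_subgroupOf] at h
        have h2 := B'.mul_mem (B'.inv_mem h) hc
        have e : ((c * (⟨a, haB⟩ : ↥B)⁻¹ : ↥B) : G)⁻¹ * c = a := by push_cast; group
        rwa [e] at h2
      · left
        refine ⟨?_, hc⟩
        rw [mem_subgroupOf]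
        exact hcos c c.2 hc
    have hcard : Nat.card B = Nat.card B' * 2 := by
      have h1 := (B'.subgroupOf B).card_mul_index
      rw [hidx, Nat.card_congr (subgroupOfEquivOfLe hB'le).toEquiv] at h1
      exact h1.symm
    have hpos : 0 < Nat.card B' := Nat.card_pos
    obtain ⟨k, b, w, hk, hbm, hcl, hw, hinvt, hcom, heig⟩ := ih B' (hB'le.trans hBA) (by omega)
    -- correction of `a`
    have hcorr : ∀ s : Finset (Fin k), ∃ c ∈ B', ∀ i ∈ s, (a * c) * w i = w i * (a * c) := by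
      intro s
      induction s using Finset.induction_on with
      | empty => exact ⟨1, B'.one_mem, fun i hi => absurd hi (Finset.notMem_empty i)⟩
      | insert j s hj ihs =>
        obtain ⟨c, hc, hcs⟩ := ihs
        have hacA : a * c ∈ A := A.mul_mem haA (hBA (hB'le hc))
        rcases heig j (a * c) hacA with h | h
        · refine ⟨c, hc, ?_⟩
          intro i hi
          rw [Finset.mem_insert] at hi
          rcases hi with rfl | hi
          · exact mul_inv_eq_iff_eq_mul.1 h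
          · exact hcs i hi
        · refine ⟨c * b j, B'.mul_mem hc (hbm j), ?_⟩
          intro i hi
          rw [Finset.mem_insert] at hi
          rcases hi with rfl | hi
          · have h3 : (a * (c * b i)) * w i * (a * (c * b i))⁻¹ = w i := by
              calc (a * (c * b i)) * w i * (a * (c * b i))⁻¹ = (a * c) * (b i * w i * (b i)⁻¹) * (a * c)⁻¹ := by group
                _ = (a * c) * (w i)⁻¹ * (a * c)⁻¹ := by rw [hinvt i]
                _ = ((a * c) * w i * (a * c)⁻¹)⁻¹ := by group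
                _ = w i := by rw [h, inv_inv]
            exact mul_inv_eq_iff_eq_mul.1 h3
          · have hij : i ≠ j := fun h => hj (h ▸ hi)
            have h4 := hcom i j hij
            have h5 := hcs i hi
            calc a * (c * b j) * w i = (a * c) * (b j * w i) := by group
              _ = (a * c) * (w i * b j) := by rw [h4]
              _ = ((a * c) * w i) * b j := by group
              _ = (w i * (a * c)) * b j := by rw [h5]
              _ = w i * (a * (c * b j)) := by group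
    obtain ⟨c, hc, hcs⟩ := hcorr Finset.univ
    have hacB : a * c ∈ B := B.mul_mem haB (hB'le hc)
    refine ⟨k + 1, Fin.cons (a * c) b, Fin.cons y w, ?_, ?_, ?_, ?_, ?_, ?_, ?_⟩
    · rw [hcard, hk, pow_succ]
    · intro i
      refine Fin.cases ?_ (fun i => ?_) i
      · exact hacB
      · exact hB'le (hbm i)
    · rw [Fin.range_cons]
      apply le_antisymm
      · rw [closure_le]
        rintro z (rfl | ⟨i, rfl⟩)
        · exact hacB
        · exact hB'le (hbm i)
      · intro z hz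
        have hsub : B' ≤ closure (insert (a * c) (Set.range b)) := by
          rw [← hcl]
          exact closure_mono (Set.subset_insert _ _)
        by_cases hz' : z ∈ B'
        · exact hsub hz'
        · have h1 := hsub (hcos z hz hz')
          have h2 : a * c ∈ closure (insert (a * c) (Set.range b)) := subset_closure (Set.mem_insert _ _)
          have h3 := hsub (B'.inv_mem hc)
          have h4 := mul_mem (mul_mem h1 h2) h3
          have e : z * a⁻¹ * (a * c) * c⁻¹ = z := by group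
          rwa [e] at h4
    · intro i
      refine Fin.cases ?_ (fun i => ?_) i
      · exact ⟨hyM, hy1⟩
      · exact hw i
    · intro i
      refine Fin.cases ?_ (fun i => ?_) i
      · rw [Fin.cons_zero, Fin.cons_zero]
        have h1 := ((hB'm c).1 hc).2
        calc a * c * y * (a * c)⁻¹ = a * (c * y) * c⁻¹ * a⁻¹ := by group
          _ = a * (y * c) * c⁻¹ * a⁻¹ := by rw [h1]
          _ = a * y * a⁻¹ := by group
          _ = y⁻¹ := hya
      · exact hinvt i
    · intro i j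
      refine Fin.cases ?_ (fun i => ?_) i
      · refine Fin.cases ?_ (fun j => ?_) j
        · intro h; exact absurd rfl h
        · intro _
          rw [Fin.cons_zero, Fin.cons_succ]
          exact ((hB'm (b j)).1 (hbm j)).2
      · refine Fin.cases ?_ (fun j => ?_) j
        · intro _
          rw [Fin.cons_zero, Fin.cons_succ]
          exact hcs i (Finset.mem_univ i)
        · intro h
          rw [Fin.cons_succ, Fin.cons_succ]
          exact hcom i j (fun e => h (by rw [e]))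
    · intro i
      refine Fin.cases ?_ (fun i => ?_) i
      · exact hye'
      · exact heig i

/-- an element of `D` outside `M` which is central modulo `M`, for `F` nilpotent. -/
theorem exists_central_mod {F M D : Subgroup G} (hF : Group.IsNilpotent F) (hDF : D ≤ F)
    (hDn : ∀ f ∈ F, ∀ x ∈ D, f * x * f⁻¹ ∈ D) (hne : ¬ D ≤ M) :
    ∃ x ∈ D, x ∉ M ∧ ∀ f ∈ F, f * x * f⁻¹ * x⁻¹ ∈ M := by
  classical
  let E : ℕ → Subgroup G := fun n => Nat.rec D (fun _ X => ⁅X, F⁆) n
  have hE0 : E 0 = D := rfl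
  have hE1 : ∀ n, E (n + 1) = ⁅E n, F⁆ := fun n => rfl
  have hED : ∀ n, E n ≤ D := by
    intro n
    induction n with
    | zero => exact le_rfl
    | succ n ih =>
      rw [hE1, commutator_le]
      intro x hx f hf
      rw [commutatorElement_def]
      have h1 := D.mul_mem (ih hx) (hDn f hf x⁻¹ (D.inv_mem (ih hx)))
      have e : x * (f * x⁻¹ * f⁻¹) = x * f * x⁻¹ * f⁻¹ := by group
      rwa [e] at h1
  have hEL : ∀ n, E n ≤ (Subgroup.lowerCentralSeries (⊤ : Subgroup ↥F) n).map F.subtype := by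
    intro n
    induction n with
    | zero =>
      intro x hx
      exact ⟨⟨x, hDF hx⟩, mem_top _, rfl⟩
    | succ n ih =>
      have h1 : Subgroup.lowerCentralSeries (⊤ : Subgroup ↥F) (n + 1) = ⁅Subgroup.lowerCentralSeries (⊤ : Subgroup ↥F) n, (⊤ : Subgroup ↥F)⁆ := rfl
      rw [hE1, h1, map_commutator]
      apply commutator_mono ih
      intro x hx
      exact ⟨⟨x, hx⟩, mem_top _, rfl⟩
  obtain ⟨n, hn⟩ := Subgroup.nilpotent_iff_lowerCentralSeries.1 hF
  have hex : ∃ n, E n ≤ M := ⟨n, by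
    refine (hEL n).trans ?_
    rw [hn, Subgroup.map_bot]
    exact bot_le⟩
  obtain ⟨m, hspec, hmin⟩ : ∃ m, E m ≤ M ∧ ∀ r, r < m → ¬ E r ≤ M := by
    by_contra hcon
    push Not at hcon
    have key : ∀ m, ¬ E m ≤ M := by
      intro m
      induction m using Nat.strong_induction_on with
      | _ m ih =>
        intro h
        obtain ⟨r, hr, hr'⟩ := hcon m h
        exact ih r hr hr'
    obtain ⟨n, hn⟩ := hex
    exact key n hn
  have hm0 : m ≠ 0 := by
    intro h
    rw [h] at hspec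
    exact hne hspec
  obtain ⟨r, hr⟩ := Nat.exists_eq_succ_of_ne_zero hm0
  have h2 := hmin r (by omega)
  obtain ⟨x, hx, hxM⟩ := Set.not_subset.1 h2
  refine ⟨x, hED r hx, hxM, ?_⟩
  intro f hf
  have h3 : ⁅x, f⁆ ∈ E m := by
    rw [hr]
    change ⁅x, f⁆ ∈ ⁅E r, F⁆
    exact commutator_mem_commutator hx hf
  have h4 := M.inv_mem (hspec h3)
  rw [commutatorElement_def] at h4
  have e : (x * f * x⁻¹ * f⁻¹)⁻¹ = f * x * f⁻¹ * x⁻¹ := by group
  rwa [e] at h4

theorem faith_step [Finite G] {L F : Subgroup G} {a : G} (ha : a * a = 1) (haL : ∀ x ∈ L, a * x * a⁻¹ ∈ L)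
    (hFn : ∀ l ∈ L, ∀ x ∈ F, l * x * l⁻¹ ∈ F) (hC : L ⊓ centralizer (F : Set G) ≤ F) (hodd : Odd (Nat.card F))
    (hc : ∀ x ∈ F, a * x = x * a) : ∀ l ∈ L, a * l = l * a := by
  intro l hl
  set w := l⁻¹ * (a * l * a⁻¹) with hw
  have hwL : w ∈ L := L.mul_mem (L.inv_mem hl) (haL l hl)
  have hwF : w ∈ F := by
    apply hC
    refine ⟨hwL, mem_centralizer_iff.2 ?_⟩
    intro x hx
    have h1 := hc x hx
    have h2 := hc _ (hFn l hl x hx)
    have h3 : w * x * w⁻¹ = x := by
      calc w * x * w⁻¹ = l⁻¹ * (a * (l * (a⁻¹ * x * a) * l⁻¹) * a⁻¹) * l := by rw [hw]; group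
        _ = l⁻¹ * (a * (l * x * l⁻¹) * a⁻¹) * l := by
          have : a⁻¹ * x * a = x := by rw [mul_assoc, ← h1, inv_mul_cancel_left]
          rw [this]
        _ = l⁻¹ * (l * x * l⁻¹) * l := by rw [h2, mul_inv_cancel_right]
        _ = x := by group
    exact (mul_inv_eq_iff_eq_mul.1 h3).symm
  have hal : a * l * a⁻¹ = l * w := by rw [hw]; group
  have haw : a * w * a⁻¹ = w := by rw [hc w hwF, mul_inv_cancel_right]
  have hww : w * w = 1 := by
    have h1 : a * (a * l * a⁻¹) * a⁻¹ = l := by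
      calc a * (a * l * a⁻¹) * a⁻¹ = (a * a) * l * (a * a)⁻¹ := by group
        _ = l := by rw [ha]; group
    rw [hal] at h1
    have h2 : a * (l * w) * a⁻¹ = (a * l * a⁻¹) * (a * w * a⁻¹) := by group
    rw [h2, hal, haw, mul_assoc] at h1
    exact mul_eq_left.1 h1
  have hw1 := sq_eq_one hodd hwF hww
  rw [hw1, mul_one] at hal
  exact mul_inv_eq_iff_eq_mul.1 hal

theorem conj_mem_sup_zpowers {X : Subgroup G} {x g : G} (hX : ∀ z ∈ X, g * z * g⁻¹ ∈ X)
    (hx : g * x * g⁻¹ ∈ X ⊔ zpowers x) : ∀ z ∈ X ⊔ zpowers x, g * z * g⁻¹ ∈ X ⊔ zpowers x := by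
  have h1 : X ⊔ zpowers x ≤ (X ⊔ zpowers x).comap (MulAut.conj g).toMonoidHom := by
    rw [sup_le_iff]
    constructor
    · intro z hz
      exact mem_sup_left (hX z hz)
    · rw [zpowers_le]
      exact hx
  intro z hz
  exact h1 hz

/-- a self-centralizing (in `F`) abelian subgroup, normal in `F` and `A`-invariant. -/
theorem exists_abelian [Finite G] {F A : Subgroup G} (hF : Group.IsNilpotent F)
    (hAF : ∀ a ∈ A, ∀ x ∈ F, a * x * a⁻¹ ∈ F) (hA2 : ∀ a ∈ A, a * a = 1) (hAc : ∀ a ∈ A, ∀ b ∈ A, a * b = b * a) :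
    ∃ M : Subgroup G, M ≤ F ∧ (∀ x ∈ M, ∀ y ∈ M, x * y = y * x) ∧ (∀ f ∈ F, ∀ x ∈ M, f * x * f⁻¹ ∈ M) ∧
      (∀ a ∈ A, ∀ x ∈ M, a * x * a⁻¹ ∈ M) ∧ F ⊓ centralizer (M : Set G) ≤ M := by
  classical
  obtain ⟨M, hM⟩ := (Set.toFinite {X : Subgroup G | X ≤ F ∧ (∀ x ∈ X, ∀ y ∈ X, x * y = y * x) ∧
    (∀ f ∈ F, ∀ x ∈ X, f * x * f⁻¹ ∈ X) ∧ (∀ a ∈ A, ∀ x ∈ X, a * x * a⁻¹ ∈ X)}).exists_maximal
    ⟨⊥, bot_le, by
      intro x hx y hy
      rw [mem_bot] at hx hy
      rw [hx, hy], by
      intro f _ x hx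
      rw [mem_bot] at hx ⊢
      rw [hx]; group, by
      intro f _ x hx
      rw [mem_bot] at hx ⊢
      rw [hx]; group⟩
  obtain ⟨⟨hMF, hMc, hMn, hMA⟩, hmax⟩ := hM
  refine ⟨M, hMF, hMc, hMn, hMA, ?_⟩
  by_contra hne
  set D := F ⊓ centralizer (M : Set G) with hD
  have hDm : ∀ x, x ∈ D ↔ x ∈ F ∧ ∀ m ∈ M, m * x = x * m := by
    intro x
    rw [hD, mem_inf, mem_centralizer_iff]
    rfl
  have hconjD : ∀ g : G, (∀ x ∈ F, g * x * g⁻¹ ∈ F) → (∀ x ∈ M, g⁻¹ * x * g ∈ M) → ∀ x ∈ D, g * x * g⁻¹ ∈ D := by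
    intro g h1 h2 x hx
    rw [hDm] at hx ⊢
    refine ⟨h1 x hx.1, ?_⟩
    intro m hm
    have h3 := hx.2 _ (h2 m hm)
    calc m * (g * x * g⁻¹) = g * ((g⁻¹ * m * g) * x) * g⁻¹ := by group
      _ = g * (x * (g⁻¹ * m * g)) * g⁻¹ := by rw [h3]
      _ = g * x * g⁻¹ * m := by group
  have hMinv : ∀ f ∈ F, ∀ x ∈ M, f⁻¹ * x * f ∈ M := by
    intro f hf x hx
    have := hMn f⁻¹ (F.inv_mem hf) x hx
    rwa [inv_inv] at this
  have hMAinv : ∀ a ∈ A, ∀ x ∈ M, a⁻¹ * x * a ∈ M := by
    intro f hf x hx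
    have := hMA f⁻¹ (A.inv_mem hf) x hx
    rwa [inv_inv] at this
  have hFF : ∀ f ∈ F, ∀ x ∈ F, f * x * f⁻¹ ∈ F := fun f hf x hx => F.mul_mem (F.mul_mem hf hx) (F.inv_mem hf)
  have hDn : ∀ f ∈ F, ∀ x ∈ D, f * x * f⁻¹ ∈ D := fun f hf => hconjD f (hFF f hf) (hMinv f hf)
  have hDA : ∀ a ∈ A, ∀ x ∈ D, a * x * a⁻¹ ∈ D := fun a ha => hconjD a (hAF a ha) (hMAinv a ha)
  obtain ⟨x₀, hx₀, hx₀M, hx₀c⟩ := exists_central_mod hF (inf_le_left : D ≤ F) hDn hne
  let Z : Subgroup G :=
    { carrier := {x | x ∈ D ∧ ∀ f ∈ F, f * x * f⁻¹ * x⁻¹ ∈ M}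
      mul_mem' := by
        rintro x y ⟨hx, hx'⟩ ⟨hy, hy'⟩
        refine ⟨D.mul_mem hx hy, ?_⟩
        intro f hf
        have h1 := M.mul_mem (hx' f hf) (hMn x ((hDm x).1 hx).1 _ (hy' f hf))
        have e : f * x * f⁻¹ * x⁻¹ * (x * (f * y * f⁻¹ * y⁻¹) * x⁻¹) = f * (x * y) * f⁻¹ * (x * y)⁻¹ := by group
        rwa [e] at h1
      one_mem' := ⟨D.one_mem, by
        intro f _
        have e : f * 1 * f⁻¹ * (1 : G)⁻¹ = 1 := by group
        rw [e]; exact M.one_mem⟩
      inv_mem' := by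
        rintro x ⟨hx, hx'⟩
        refine ⟨D.inv_mem hx, ?_⟩
        intro f hf
        have h1 := hMinv x ((hDm x).1 hx).1 _ (M.inv_mem (hx' f hf))
        have e : x⁻¹ * (f * x * f⁻¹ * x⁻¹)⁻¹ * x = f * x⁻¹ * f⁻¹ * x⁻¹⁻¹ := by group
        rwa [e] at h1 }
  have hZm : ∀ x, x ∈ Z ↔ x ∈ D ∧ ∀ f ∈ F, f * x * f⁻¹ * x⁻¹ ∈ M := fun x => Iff.rfl
  have hZA : ∀ a ∈ A, ∀ x ∈ Z, a * x * a⁻¹ ∈ Z := by
    intro a ha x hx
    rw [hZm] at hx ⊢
    refine ⟨hDA a ha x hx.1, ?_⟩
    intro f hf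
    have hf' : a⁻¹ * f * a ∈ F := by
      have := hAF a⁻¹ (A.inv_mem ha) f hf
      rwa [inv_inv] at this
    have h1 := hMA a ha _ (hx.2 _ hf')
    have e : a * (a⁻¹ * f * a * x * (a⁻¹ * f * a)⁻¹ * x⁻¹) * a⁻¹ = f * (a * x * a⁻¹) * f⁻¹ * (a * x * a⁻¹)⁻¹ := by group
    rwa [e] at h1
  obtain ⟨x, hxZ, hxM, hxe⟩ := eigen_mod (Z := Z) (N := M) (A := A) (fun h => hx₀M (h ⟨hx₀, hx₀c⟩))
    (fun z hz w hw => hw.2 z ((hDm z).1 hz.1).1) hZA hMA hA2 hAc
  have hxD := (hDm x).1 hxZ.1
  apply hxM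
  have hle : M ⊔ zpowers x ≤ M := by
    apply hmax _ le_sup_left
    refine ⟨sup_le hMF (zpowers_le.2 hxD.1), ?_, ?_, ?_⟩
    · have h1 : M ⊔ zpowers x ≤ centralizer (M : Set G) := by
        rw [sup_le_iff]
        refine ⟨?_, ?_⟩
        · intro m hm
          rw [mem_centralizer_iff]
          intro m' hm'
          exact hMc m' hm' m hm
        · rw [zpowers_le, mem_centralizer_iff]
          exact hxD.2
      have h2 : M ⊔ zpowers x ≤ centralizer ({x} : Set G) := by
        rw [sup_le_iff]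
        refine ⟨?_, ?_⟩
        · intro m hm
          rw [mem_centralizer_iff]
          rintro _ rfl
          exact (hxD.2 m hm).symm
        · rw [zpowers_le, mem_centralizer_iff]
          rintro _ rfl
          rfl
      have h3 : M ⊔ zpowers x ≤ centralizer ((M ⊔ zpowers x : Subgroup G) : Set G) := by
        rw [sup_le_iff]
        refine ⟨?_, ?_⟩
        · intro m hm
          rw [mem_centralizer_iff]
          intro z hz
          exact (mem_centralizer_iff.1 (h1 hz) m hm).symm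
        · rw [zpowers_le, mem_centralizer_iff]
          intro z hz
          exact (mem_centralizer_iff.1 (h2 hz) x rfl).symm
      intro z hz w hw
      exact (mem_centralizer_iff.1 (h3 hz) w hw).symm
    · intro f hf
      apply conj_mem_sup_zpowers (hMn f hf)
      have h1 := mul_mem (mem_sup_left (T := zpowers x) (hxZ.2 f hf)) (mem_sup_right (S := M) (mem_zpowers x))
      rwa [inv_mul_cancel_right] at h1
    · intro a ha
      apply conj_mem_sup_zpowers (hMA a ha)
      rcases hxe a ha with h | h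
      · have h1 := mul_mem (mem_sup_left (T := zpowers x) h) (mem_sup_right (S := M) (mem_zpowers x))
        rwa [inv_mul_cancel_right] at h1
      · have h1 := mul_mem (mem_sup_left (T := zpowers x) h) (mem_sup_right (S := M) (inv_mem (mem_zpowers x)))
        rwa [mul_inv_cancel_right] at h1
  exact hle (mem_sup_right (mem_zpowers x))

/-- The Thompson dihedral lemma. -/
theorem thompson_dihedral [Finite G] (L A : Subgroup G) (hLs : Group.IsSolvable ↥L)
    (hLodd : Odd (Nat.card ↥L)) (hA : Cfsg.IsElementaryAbelian 2 A) (d : ℕ)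
    (hAd : Nat.card ↥A = 2 ^ d) (hAL : A ≤ Subgroup.normalizer (L : Set G))
    (hfaith : A ⊓ Subgroup.centralizer (L : Set G) = ⊥) :
    ∃ (Ai : Fin d → Subgroup G) (Li : Fin d → Subgroup G) (n : Fin d → ℕ),
      (∀ i, Ai i ≤ A ∧ Nat.card ↥(Ai i) = 2 ∧ Li i ≤ L ∧ Odd (n i) ∧ 3 ≤ n i ∧
        Nonempty (↥(Ai i ⊔ Li i) ≃* DihedralGroup (n i))) ∧ (⨆ i, Ai i) = A ∧
      ∀ i j, i ≠ j → ∀ x ∈ Ai i ⊔ Li i, ∀ y ∈ Ai j ⊔ Li j, x * y = y * x := by
  classical
  have hA2 : ∀ a ∈ A, a * a = 1 := fun a ha => by rw [← pow_two]; exact hA.2 a ha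
  have hAc : ∀ a ∈ A, ∀ b ∈ A, a * b = b * a := fun a ha b hb => by
    have := hA.1.is_comm.comm (⟨a, ha⟩ : ↥A) ⟨b, hb⟩
    exact congrArg Subtype.val this
  have hAL' : ∀ a ∈ A, ∀ x ∈ L, a * x * a⁻¹ ∈ L := fun a ha x hx => (mem_normalizer_iff.1 (hAL ha) x).1 hx
  set F := fittingOf L with hF
  have hFL : F ≤ L := BG.fittingOf_le L
  have hFnil : Group.IsNilpotent F := BG.fittingOf_isNilpotent L
  have hFodd : Odd (Nat.card F) := Odd.of_dvd_nat hLodd (card_dvd_of_le hFL)
  have hAF : ∀ a ∈ A, ∀ x ∈ F, a * x * a⁻¹ ∈ F := fun a ha x hx =>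
    (mem_normalizer_iff.1 ((hAL.trans (BG.normalizer_le_normalizer_fittingOf L)) ha) x).1 hx
  have hLF : ∀ l ∈ L, ∀ x ∈ F, l * x * l⁻¹ ∈ F := fun a ha x hx =>
    (mem_normalizer_iff.1 (BG.le_normalizer_fittingOf L ha) x).1 hx
  obtain ⟨M, hMF, hMc, hMn, hMA, hMC⟩ := exists_abelian hFnil hAF hA2 hAc
  have hModd : Odd (Nat.card M) := Odd.of_dvd_nat hFodd (card_dvd_of_le hMF)
  have hfM : ∀ a ∈ A, (∀ x ∈ M, a * x = x * a) → a = 1 := by
    intro a ha hax
    have h1 := faith_step (hA2 a ha) (hAF a ha) hMn hMC hModd hax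
    have h2 := faith_step (hA2 a ha) (hAL' a ha) hLF (BG.inf_centralizer_fittingOf_le hLs) hFodd h1
    have h3 : a ∈ A ⊓ Subgroup.centralizer (L : Set G) :=
      mem_inf.2 ⟨ha, mem_centralizer_iff.2 fun l hl => (h2 l hl).symm⟩
    rw [hfaith, mem_bot] at h3
    exact h3
  obtain ⟨k, b, y, hk, hbA, hcl, hy, hinvt, hcom, -⟩ :=
    abelian_part hMc hModd hMA hA2 hAc hfM (Nat.card A) A le_rfl le_rfl
  have hkd : k = d := Nat.pow_right_injective le_rfl (hk.symm.trans hAd)
  subst hkd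
  have hb1 : ∀ i, b i ≠ 1 := by
    intro i h
    have h1 := hinvt i
    rw [h, one_mul, inv_one, mul_one] at h1
    apply (hy i).2
    apply sq_eq_one hModd (hy i).1
    nth_rewrite 1 [h1]
    exact inv_mul_cancel _
  have hbo : ∀ i, orderOf (b i) = 2 := fun i =>
    orderOf_eq_prime (by rw [pow_two]; exact hA2 _ (hbA i)) (hb1 i)
  have hyodd : ∀ i, Odd (orderOf (y i)) := fun i => Odd.of_dvd_nat hModd (by
    have := orderOf_dvd_natCard (⟨y i, (hy i).1⟩ : M)
    rwa [Subgroup.orderOf_mk] at this)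
  refine ⟨fun i => zpowers (b i), fun i => zpowers (y i), fun i => orderOf (y i), ?_, ?_, ?_⟩
  · intro i
    refine ⟨zpowers_le.2 (hbA i), ?_, zpowers_le.2 (hFL (hMF (hy i).1)), hyodd i, ?_, ?_⟩
    · rw [Nat.card_zpowers, hbo]
    · have h1 : orderOf (y i) ≠ 1 := fun h => (hy i).2 (orderOf_eq_one_iff.1 h)
      have h2 : orderOf (y i) ≠ 0 := (orderOf_pos (y i)).ne'
      obtain ⟨r, hr⟩ := hyodd i
      change 3 ≤ orderOf (y i)
      omega
    · have hby : b i * y i ≠ 1 := by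
        intro h
        have h1 : b i ∈ M := by
          rw [mul_eq_one_iff_eq_inv.1 h]
          exact M.inv_mem (hy i).1
        exact hb1 i (sq_eq_one hModd h1 (hA2 _ (hbA i)))
      have hbi : (b i)⁻¹ = b i := (eq_inv_of_mul_eq_one_left (hA2 _ (hbA i))).symm
      have hbyo : orderOf (b i * y i) = 2 := by
        apply orderOf_eq_prime _ hby
        have h1 := hinvt i
        rw [hbi] at h1
        rw [pow_two, ← mul_assoc, h1, inv_mul_cancel]
      have hne : b i ≠ b i * y i := by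
        intro h
        exact (hy i).2 (left_eq_mul.1 h)
      obtain ⟨e⟩ := S0206.result (b i) (b i * y i) (hbo i) hbyo hne
      have h1 : b i * (b i * y i) = y i := by rw [← mul_assoc, hA2 _ (hbA i), one_mul]
      rw [h1] at e
      have h2 : zpowers (b i) ⊔ zpowers (y i) = Subgroup.closure ({b i, b i * y i} : Set G) := by
        apply le_antisymm
        · rw [sup_le_iff, zpowers_le, zpowers_le]
          have m1 : b i ∈ Subgroup.closure ({b i, b i * y i} : Set G) := subset_closure (by simp)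
          have m2 : b i * y i ∈ Subgroup.closure ({b i, b i * y i} : Set G) := subset_closure (by simp)
          refine ⟨m1, ?_⟩
          have := mul_mem m1 m2
          rwa [h1] at this
        · rw [closure_le]
          rintro z (rfl | rfl)
          · exact mem_sup_left (mem_zpowers _)
          · exact mul_mem (mem_sup_left (mem_zpowers _)) (mem_sup_right (mem_zpowers _))
      exact ⟨(MulEquiv.subgroupCongr h2).trans e⟩
  · rw [← hcl]
    apply le_antisymm
    · apply iSup_le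
      intro i
      rw [zpowers_le]
      exact subset_closure ⟨i, rfl⟩
    · rw [closure_le]
      rintro _ ⟨i, rfl⟩
      exact mem_iSup_of_mem i (mem_zpowers _)
  · intro i j hij
    have hgen : zpowers (b i) ⊔ zpowers (y i) ≤
        centralizer ((zpowers (b j) ⊔ zpowers (y j) : Subgroup G) : Set G) := by
      have hone : ∀ g : G, (g * b j = b j * g) → (g * y j = y j * g) →
          g ∈ centralizer ((zpowers (b j) ⊔ zpowers (y j) : Subgroup G) : Set G) := by
        intro g h1 h2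
        have h3 : zpowers (b j) ⊔ zpowers (y j) ≤ centralizer ({g} : Set G) := by
          rw [sup_le_iff, zpowers_le, zpowers_le, mem_centralizer_iff, mem_centralizer_iff]
          refine ⟨?_, ?_⟩
          · rintro _ rfl; exact h1
          · rintro _ rfl; exact h2
        rw [mem_centralizer_iff]
        intro z hz
        exact (mem_centralizer_iff.1 (h3 hz) g rfl).symm
      rw [sup_le_iff, zpowers_le, zpowers_le]
      exact ⟨hone _ (hAc _ (hbA i) _ (hbA j)) (hcom j i hij.symm),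
        hone _ (hcom i j hij).symm (hMc _ (hy i).1 _ (hy j).1)⟩
    intro x hx z hz
    exact (mem_centralizer_iff.1 (hgen hx) z hz).symm

end Cfsg.Agent.H23.TD
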